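import Cfsg.Agent.Lib.Invol.GL25.Phi

/-!
# An involution centraliser with image `GL(2,5)` modulo a subgroup of odd order: local facts

A section over a wreathed Sylow 2-subgroup, lifting through the kernel of odd order, and the Sylow order 32.
-/

set_option autoImplicit false
set_option maxRecDepth 100000
set_option linter.style.haveILetI false

namespace Cfsg.Agent.Invol.Wreath5Core

open Cfsg GL25

universe u v

/-! ### Lifting through a kernel of odd order -/

section Lift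

variable {H : Type u} [Group H] [Finite H] {K : Type v} [Group K]

/-- An element of 2-power order in the kernel is trivial. -/
theorem eq_one_of_ker (π : H →* K) (odd : ¬ 2 ∣ Nat.card π.ker) {t : H} (ht : ∃ k, orderOf t = 2 ^ k)
    (h : π t = 1) : t = 1 := by
  obtain ⟨k, hk⟩ := ht
  have h1 := π.ker.orderOf_dvd_natCard (x := t) h
  rw [hk] at h1
  rcases k with _ | k
  · exact orderOf_eq_one_iff.1 (hk.trans (pow_zero 2))
  · exact absurd ((dvd_pow_self 2 (by omega)).trans h1) odd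

/-- Two elements of 2-power order with one image are conjugate by the kernel. -/
theorem conj_of_same_image (π : H →* K) (odd : ¬ 2 ∣ Nat.card π.ker) {t t' : H}
    (ht : ∃ k, orderOf t = 2 ^ k) (ht' : ∃ k, orderOf t' = 2 ^ k) (h : π t = π t') :
    ∃ l ∈ π.ker, l * t * l⁻¹ = t' := by
  classical
  haveI : Fact (Nat.Prime 2) := ⟨Nat.prime_two⟩
  obtain ⟨A, hA⟩ : ∃ A, A = (Subgroup.zpowers (π t)).comap π := ⟨_, rfl⟩
  have memA : ∀ y : H, y ∈ A ↔ π y ∈ Subgroup.zpowers (π t) := fun y => by rw [hA]; exact Iff.rfl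
  have htA : t ∈ A := by rw [hA]; exact Subgroup.mem_zpowers _
  have ht'A : t' ∈ A := (memA _).2 (h ▸ Subgroup.mem_zpowers _)
  have hcyc : ∀ {s : H}, (∃ k, orderOf s = 2 ^ k) → IsPGroup 2 (Subgroup.zpowers s) := fun ⟨k, hk⟩ =>
    IsPGroup.of_card (n := k) (by rw [Nat.card_zpowers, hk])
  have hKA : π.ker ≤ A := fun x hx => by
    rw [hA, Subgroup.mem_comap, MonoidHom.mem_ker.1 hx]; exact one_mem _
  -- the cyclic group of `t` is a Sylow subgroup of `A`
  have hmax : ∀ {s : H}, π s = π t → ∀ hsA : s ∈ A, (∃ k, orderOf s = 2 ^ k) →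
      ∃ P : Sylow 2 A, (P : Subgroup A) = (Subgroup.zpowers s).subgroupOf A := by
    intro s hs hsA hk
    obtain ⟨P, hP⟩ := IsPGroup.exists_le_sylow (G := A)
      ((hcyc hk).comap_of_injective A.subtype Subtype.val_injective)
    refine ⟨P, (le_antisymm hP ?_).symm⟩
    intro x hx
    have hx' : π (x : H) ∈ Subgroup.zpowers (π t) := (memA _).1 x.2
    obtain ⟨i, hi⟩ := Subgroup.mem_zpowers_iff.1 hx'
    obtain ⟨y, hy⟩ : ∃ y : A, y = x * (⟨s, hsA⟩ ^ i)⁻¹ := ⟨_, rfl⟩
    have hyP : y ∈ (P : Subgroup A) := by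
      rw [hy]
      refine mul_mem hx (inv_mem (zpow_mem (hP ?_) _))
      exact Subgroup.mem_zpowers s
    have hy1 : π (y : H) = 1 := by
      rw [hy]
      simp [hs, hi]
    obtain ⟨j, hj⟩ := IsPGroup.iff_orderOf.1 P.isPGroup' ⟨y, hyP⟩
    have hy2 : (y : H) = 1 := eq_one_of_ker π odd ⟨j, by
      rw [← hj, Subgroup.orderOf_coe, ← Subgroup.orderOf_coe (⟨y, hyP⟩ : ↥(P : Subgroup A))]⟩ hy1
    have hy3 : x = ⟨s, hsA⟩ ^ i := mul_inv_eq_one.1 (hy ▸ Subtype.ext hy2)
    show (x : H) ∈ Subgroup.zpowers s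
    rw [hy3, Subgroup.coe_zpow]
    exact zpow_mem (Subgroup.mem_zpowers s) i
  obtain ⟨P, hP⟩ := hmax rfl htA ht
  obtain ⟨P', hP'⟩ := hmax h.symm ht'A ht'
  obtain ⟨g, hg⟩ := MulAction.exists_smul_eq A P P'
  have hmem : (g : H) * t * (g : H)⁻¹ ∈ Subgroup.zpowers t' := by
    have h1 : g * ⟨t, htA⟩ * g⁻¹ ∈ (P' : Subgroup A) := by
      rw [← hg, Sylow.coe_subgroup_smul, Subgroup.mem_pointwise_smul_iff_inv_smul_mem, ← map_inv, MulAut.smul_def,
        MulAut.conj_apply, hP]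
      show (((g⁻¹ * (g * ⟨t, htA⟩ * g⁻¹) * g⁻¹⁻¹ : A)) : H) ∈ Subgroup.zpowers t
      simp [mul_assoc]
    rw [hP'] at h1
    exact h1
  -- correct `g` into the kernel
  obtain ⟨i, hi⟩ := Subgroup.mem_zpowers_iff.1 hmem
  obtain ⟨j, hj⟩ : ∃ j : ℤ, π t ^ j = π (g : H) := Subgroup.mem_zpowers_iff.1 ((memA _).1 g.2)
  refine ⟨(g : H) * (t ^ j)⁻¹, by rw [MonoidHom.mem_ker]; simp [hj], ?_⟩
  have h2 : (g : H) * (t ^ j)⁻¹ * t * ((g : H) * (t ^ j)⁻¹)⁻¹ = (g : H) * t * (g : H)⁻¹ := by group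
  rw [h2, ← hi]
  have h3 : π (g : H) * π t * (π (g : H))⁻¹ = π t := by rw [← hj]; group
  rw [← map_inv, ← map_mul, ← map_mul, ← hi, h, map_zpow] at h3
  have h4 : t' ^ (i - 1) = 1 := by
    refine eq_one_of_ker π odd ?_ (by rw [map_zpow, zpow_sub, h3, zpow_one, mul_inv_cancel])
    obtain ⟨m, hm⟩ := IsPGroup.iff_orderOf.1 (hcyc ht') ⟨t' ^ (i - 1), zpow_mem (Subgroup.mem_zpowers t') _⟩
    exact ⟨m, by rw [← hm, Subgroup.orderOf_mk]⟩
  rw [zpow_sub, zpow_one, mul_inv_eq_one] at h4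
  exact h4

/-- A commuting element lifts to the centralizer. -/
theorem exists_lift (π : H →* K) (surj : Function.Surjective π) (odd : ¬ 2 ∣ Nat.card π.ker) {t : H}
    (ht : ∃ k, orderOf t = 2 ^ k) {q : K} (hq : q * π t = π t * q) :
    ∃ g : H, g * t = t * g ∧ π g = q := by
  obtain ⟨g, rfl⟩ := surj q
  obtain ⟨k, hk⟩ := ht
  obtain ⟨l, hl, e⟩ := conj_of_same_image π odd (t := g * t * g⁻¹) (t' := t)
    ⟨k, by rw [← MulAut.conj_apply, MulEquiv.orderOf_eq, hk]⟩ ⟨k, hk⟩ (by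
      rw [map_mul, map_mul, map_inv, hq, mul_inv_cancel_right])
  refine ⟨l * g, ?_, by rw [map_mul, MonoidHom.mem_ker.1 hl, one_mul]⟩
  calc l * g * t = l * (g * t * g⁻¹) * l⁻¹ * (l * g) := by group
    _ = t * (l * g) := by rw [e]

end Lift

/-! ### Tables -/

/-- Monomial matrices. -/
def pS : V → Bool
  | (a, b, c, d) => decide (b = 0 ∧ c = 0 ∨ a = 0 ∧ d = 0)

/-- The wreathed subgroup of order 32. -/
def Semi : Subgroup Q := cut pS (by decide +kernel) (by decide +kernel) (by decide +kernel)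

theorem card_Semi : Nat.card Semi = 32 := card_cut.trans (by decide +kernel)

/-- The quadruples of the subgroup. -/
def sq : Finset V := units.filter fun v => pS v = true

theorem mem_sq (q : ↥Semi) : toV (q : Q) ∈ sq := Finset.mem_filter.2 ⟨mem_units _, q.2⟩

theorem semi_central : ∀ w ∈ sq, mv w w = ov → w ≠ ov → (∀ v ∈ sq, mv w v = mv v w) → w = rep 2 := by
  decide +kernel

theorem semi_invol : ∀ w ∈ sq, mv w w = ov → w ≠ ov → tyv w = 2 ∨ tyv w = 6 := by decide +kernel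

theorem central_two : ∀ w ∈ units, tyv w = 2 → w = rep 2 := by decide +kernel

/-! ### The setting -/

/-- The centralizer of an involution `u` maps onto `GL(2,5)` with kernel of odd order; a section over a
Sylow 2-subgroup. -/
structure Data (G : Type u) [Group G] where
  u : G
  ord : orderOf u = 2
  π : ↥(Subgroup.centralizer ({u} : Set G)) →* Q
  surj : Function.Surjective π
  odd : ¬ 2 ∣ Nat.card π.ker
  map_u : π ⟨u, Subgroup.mem_centralizer_singleton_iff.2 rfl⟩ = el 2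
  s : ↥Semi →* ↥(Subgroup.centralizer ({u} : Set G))
  sec : ∀ q, π (s q) = (q : Q)

variable {G : Type u} [Group G]

/-- A section exists. -/
theorem exists_data [Finite G] {u : G} (hu : orderOf u = 2) (π : ↥(Subgroup.centralizer ({u} : Set G)) →* Q)
    (surj : Function.Surjective π) (odd : ¬ 2 ∣ Nat.card π.ker) : ∃ D : Data G, D.u = u := by
  classical
  haveI : Fact (Nat.Prime 2) := ⟨Nat.prime_two⟩
  set K := Semi.comap π
  let f : ↥K →* ↥Semi := π.subgroupComap Semi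
  have hf : Function.Surjective f := fun q => by
    obtain ⟨g, hg⟩ := surj q
    exact ⟨⟨g, by show π g ∈ Semi; rw [hg]; exact q.2⟩, Subtype.ext hg⟩
  have hker : Nat.card f.ker = Nat.card π.ker := by
    refine Nat.card_congr ⟨fun g => ⟨(g.1 : ↥(Subgroup.centralizer ({u} : Set G))),
        congrArg Subtype.val (MonoidHom.mem_ker.1 g.2)⟩,
      fun g => ⟨⟨g.1, by show π g.1 ∈ Semi; rw [MonoidHom.mem_ker.1 g.2]; exact Semi.one_mem⟩,
        MonoidHom.mem_ker.2 (Subtype.ext (MonoidHom.mem_ker.1 g.2))⟩,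
      fun g => rfl, fun g => rfl⟩
  have hidx : f.ker.index = 32 := by
    rw [Subgroup.index_ker, MonoidHom.range_eq_top.2 hf, Subgroup.card_top, card_Semi]
  obtain ⟨P⟩ : Nonempty (Sylow 2 ↥K) := Sylow.nonempty
  have hP : Nat.card (P : Subgroup ↥K) = 32 := by
    rw [P.card_eq_multiplicity, ← f.ker.card_mul_index, hidx, hker,
      Nat.factorization_mul Nat.card_pos.ne' (by norm_num), Finsupp.add_apply,
      Nat.factorization_eq_zero_of_not_dvd odd, show (32 : ℕ) = 2 ^ 5 by norm_num,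
      Nat.Prime.factorization_pow Nat.prime_two, Finsupp.single_eq_same, zero_add]
  let g : ↥(P : Subgroup ↥K) →* ↥Semi := f.comp (P : Subgroup ↥K).subtype
  have hg : Function.Injective g := by
    refine (injective_iff_map_eq_one g).2 fun x hx => Subtype.ext ?_
    obtain ⟨k, hk⟩ := IsPGroup.iff_orderOf.1 P.isPGroup' x
    exact eq_one_of_ker f (by rw [hker]; exact odd) ⟨k, by rw [Subgroup.orderOf_coe, hk]⟩ hx
  have hgb : Function.Bijective g :=
    (Nat.bijective_iff_injective_and_card g).2 ⟨hg, by rw [hP, card_Semi]⟩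
  let e := MulEquiv.ofBijective g hgb
  have hmap : π ⟨u, Subgroup.mem_centralizer_singleton_iff.2 rfl⟩ = el 2 := by
    have hcent : ∀ w ∈ units, mv w w = ov → w ≠ ov → (∀ j : Fin 24, mv w (rep j) = mv (rep j) w) → w = rep 2 := by
      decide +kernel
    set U : ↥(Subgroup.centralizer ({u} : Set G)) := ⟨u, Subgroup.mem_centralizer_singleton_iff.2 rfl⟩
    refine toV_injective ((hcent _ (mem_units _) ?_ (fun e1 => ?_) fun j => ?_).trans (toV_el 2).symm)
    · rw [← toV_mul, ← toV_one, ← map_mul]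
      refine congrArg toV ?_
      have h1 : U * U = 1 := Subtype.ext (by
        show u * u = 1
        rw [← pow_two, ← hu, pow_orderOf_eq_one])
      rw [h1, map_one]
    · have h1 : U = 1 := eq_one_of_ker π odd ⟨1, by rw [← Subgroup.orderOf_coe, pow_one]; exact hu⟩
        (toV_injective (e1.trans toV_one.symm))
      have h2 : u = 1 := congrArg Subtype.val h1
      rw [h2, orderOf_one] at hu
      omega
    · obtain ⟨c, hc⟩ := surj (el j)
      rw [← toV_el, ← hc, ← toV_mul, ← toV_mul, ← map_mul, ← map_mul]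
      exact congrArg toV (congrArg π (Subtype.ext (Subgroup.mem_centralizer_singleton_iff.1 c.2).symm))
  refine ⟨⟨u, hu, π, surj, odd, hmap, K.subtype.comp ((P : Subgroup ↥K).subtype.comp e.symm.toMonoidHom),
    fun q => ?_⟩, rfl⟩
  exact congrArg Subtype.val (e.apply_symm_apply q)

namespace Data

variable (D : Data G)

/-- The centralizer of the involution. -/
abbrev C : Subgroup G := Subgroup.centralizer ({D.u} : Set G)

/-- The kernel as a subgroup of the group. -/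
def O : Subgroup G := D.π.ker.map D.C.subtype

/-- The section. -/
def p : ↥Semi →* G := D.C.subtype.comp D.s

theorem p_mem (q : ↥Semi) : D.p q ∈ D.C := (D.s q).2

theorem pi_p (q : ↥Semi) : D.π ⟨D.p q, D.p_mem q⟩ = q := D.sec q

theorem p_inj : Function.Injective D.p := fun a b h => by
  have h' : D.s a = D.s b := Subtype.ext h
  have := congrArg D.π h'
  rwa [D.sec, D.sec, Subtype.coe_inj] at this

theorem u_mem : D.u ∈ D.C := Subgroup.mem_centralizer_singleton_iff.2 rfl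

theorem u_sq : D.u * D.u = 1 := by rw [← pow_two, ← D.ord, pow_orderOf_eq_one]

theorem u_inv : D.u⁻¹ = D.u := inv_eq_of_mul_eq_one_left D.u_sq

theorem u_ne_one : D.u ≠ 1 := fun e => by
  have := D.ord
  rw [e, orderOf_one] at this
  omega

theorem comm {g : G} (hg : g ∈ D.C) : g * D.u = D.u * g := Subgroup.mem_centralizer_singleton_iff.1 hg

variable [Finite G]

theorem card_O : Nat.card D.O = Nat.card D.π.ker :=
  (Nat.card_congr (Subgroup.equivMapOfInjective _ _ (Subgroup.subtype_injective _)).toEquiv).symm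

theorem odd_O : ¬ 2 ∣ Nat.card D.O := D.card_O.symm ▸ D.odd

theorem O_le : D.O ≤ D.C := Subgroup.map_subtype_le _

theorem mem_O {g : G} (hg : g ∈ D.C) : g ∈ D.O ↔ D.π ⟨g, hg⟩ = 1 :=
  ⟨fun ⟨x, hx, he⟩ => by rw [show (⟨g, hg⟩ : D.C) = x from Subtype.ext he.symm]; exact hx,
    fun h => ⟨⟨g, hg⟩, h, rfl⟩⟩

theorem le_normalizer : D.C ≤ Subgroup.normalizer (D.O : Set G) := by
  intro c hc
  refine Subgroup.mem_normalizer_iff.2 fun w => ⟨?_, ?_⟩
  · rintro ⟨v, hv, rfl⟩
    exact ⟨⟨c, hc⟩ * v * ⟨c, hc⟩⁻¹, (MonoidHom.normal_ker D.π).conj_mem v hv _, by simp⟩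
  · rintro ⟨v, hv, e⟩
    refine ⟨⟨c, hc⟩⁻¹ * v * ⟨c, hc⟩, (MonoidHom.normal_ker D.π).conj_mem' v hv _, ?_⟩
    simp only [Subgroup.coe_subtype, Subgroup.coe_mul, Subgroup.coe_inv] at e ⊢
    rw [e]; group

theorem p_two {q : ↥Semi} (h : toV (q : Q) = rep 2) : D.p q = D.u := by
  have hq : q * q = 1 := Subtype.ext (toV_injective (by
    rw [show ((q * q : ↥Semi) : Q) = (q : Q) * q from rfl, toV_mul, h]
    show _ = toV 1
    rw [toV_one]; decide))
  have h1 : (D.π ⟨D.p q, D.p_mem q⟩) = el 2 := by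
    rw [D.pi_p]; exact toV_injective (h.trans (toV_el 2).symm)
  have hc : (⟨D.p q, D.p_mem q⟩ : D.C) * ⟨D.u, D.u_mem⟩ = 1 := by
    refine eq_one_of_ker D.π D.odd ?_ ?_
    · obtain ⟨k, -, hk⟩ := (Nat.dvd_prime_pow Nat.prime_two (m := 1)
        (i := orderOf ((⟨D.p q, D.p_mem q⟩ : D.C) * ⟨D.u, D.u_mem⟩))).1 (by
        rw [pow_one]
        refine orderOf_dvd_of_pow_eq_one (x := (⟨D.p q, D.p_mem q⟩ : D.C) * ⟨D.u, D.u_mem⟩) (n := 2) (Subtype.ext ?_)
        show (D.p q * D.u) ^ 2 = 1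
        rw [(show Commute (D.p q) D.u from D.comm (D.p_mem q)).mul_pow, ← map_pow, pow_two q, hq, map_one,
          pow_two, D.u_sq, one_mul])
      exact ⟨k, hk⟩
    · rw [map_mul, h1, D.map_u]
      refine toV_injective ?_
      rw [toV_mul, toV_el, toV_one]; decide
  have h2 : D.p q * D.u = 1 := congrArg Subtype.val hc
  rw [eq_inv_of_mul_eq_one_left h2, D.u_inv]

omit [Finite G] in
/-- Two powers of order two of one element agree. -/
theorem pow_unique {g : G} {a b : ℕ} (ha : orderOf (g ^ a) = 2) (hb : orderOf (g ^ b) = 2) :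
    g ^ a = g ^ b := by
  have key : ∀ k : ℕ, orderOf (g ^ k) = 2 → orderOf g ∣ 2 * k ∧ ¬ orderOf g ∣ k := fun k hk => by
    refine ⟨orderOf_dvd_iff_pow_eq_one.2 (by rw [mul_comm, pow_mul, ← hk, pow_orderOf_eq_one]), fun h => ?_⟩
    rw [orderOf_dvd_iff_pow_eq_one.1 h, orderOf_one] at hk
    omega
  obtain ⟨ha1, ha2⟩ := key a ha
  obtain ⟨hb1, hb2⟩ := key b hb
  rw [pow_eq_pow_iff_modEq]
  generalize orderOf g = n at *
  obtain ⟨x, hx⟩ := ha1
  obtain ⟨y, hy⟩ := hb1
  rcases Nat.even_or_odd x with ⟨r, hr⟩ | ⟨r, hr⟩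
  · exact absurd ⟨r, by subst hr; linarith⟩ ha2
  rcases Nat.even_or_odd y with ⟨r', hr'⟩ | ⟨r', hr'⟩
  · exact absurd ⟨r', by subst hr'; linarith⟩ hb2
  subst hr hr'
  have h2 : (2 * a) % (2 * n) = (2 * b) % (2 * n) := by
    rw [hx, hy, show n * (2 * r + 1) = n + 2 * n * r by ring, show n * (2 * r' + 1) = n + 2 * n * r' by ring,
      Nat.add_mul_mod_self_left, Nat.add_mul_mod_self_left]
  rw [Nat.mul_mod_mul_left, Nat.mul_mod_mul_left] at h2
  exact mul_left_cancel₀ two_ne_zero h2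

/-- Some power of an element over a root of the central involution is `u`. -/
theorem exists_pow {g : G} (hg : g ∈ D.C) (hr : din (ty (D.π ⟨g, hg⟩)) = true) : ∃ k : ℕ, g ^ k = D.u := by
  obtain ⟨k, -, hk⟩ := din_root _ hr
  obtain ⟨x, hx⟩ := isConj_el (D.π ⟨g, hg⟩)
  have hpow : ∀ (r : Q) (n : ℕ), toV (r ^ n) = (fun w : V => Nat.rec ov (fun _ s => mv w s) n) (toV r) := by
    intro r n
    induction n with
    | zero => rw [pow_zero, toV_one]; rfl
    | succ n ih => rw [pow_succ', toV_mul, ih]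
  have hk' : D.π ⟨g, hg⟩ ^ k = el 2 := by
    have h1 : el (ty (D.π ⟨g, hg⟩)) ^ k = el 2 := toV_injective (by rw [hpow, toV_el, toV_el]; exact hk)
    rw [← hx]
    generalize el (ty (D.π ⟨g, hg⟩)) = r at h1
    have h2 : (x⁻¹ * r * x) ^ k = x⁻¹ * r ^ k * x := by simpa using conj_pow (i := k) (a := x⁻¹) (b := r)
    rw [h2, h1]
    refine toV_injective ?_
    rw [toV_conj, toV_el]
    exact central_two _ (by rw [← toV_el, ← toV_conj]; exact mem_units _) (class_spec 2 _ (mem_units x))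
  refine ⟨k * Nat.card D.π.ker, ?_⟩
  set v : D.C := ⟨g, hg⟩ ^ k * ⟨D.u, D.u_mem⟩ with hv
  have hvk : v ∈ D.π.ker := by
    rw [MonoidHom.mem_ker, hv, map_mul, map_pow, hk', D.map_u]
    refine toV_injective ?_
    rw [toV_mul, toV_el, toV_one]; decide
  have h1 : v ^ Nat.card D.π.ker = 1 :=
    orderOf_dvd_iff_pow_eq_one.1 (D.π.ker.orderOf_dvd_natCard hvk)
  have h2 := congrArg Subtype.val h1
  have hc : Commute (g ^ k) D.u := (show Commute g D.u from D.comm hg).pow_left k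
  simp only [hv, SubmonoidClass.coe_pow, Subgroup.coe_mul, OneMemClass.coe_one] at h2
  rw [hc.mul_pow, ← pow_mul] at h2
  obtain ⟨r, hr'⟩ : Odd (Nat.card D.π.ker) := Nat.not_even_iff_odd.1 fun he => D.odd he.two_dvd
  rw [show D.u ^ Nat.card D.π.ker = D.u by
    rw [hr', pow_succ, pow_mul, pow_two, D.u_sq, one_pow, one_mul]] at h2
  rw [eq_inv_of_mul_eq_one_left h2, D.u_inv]

/-- Conjugating one root into the centralizer fixes `u`. -/
theorem root_conj {g x : G} (hg : g ∈ D.C) (hgr : din (ty (D.π ⟨g, hg⟩)) = true) (hg' : x⁻¹ * g * x ∈ D.C)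
    (hgr' : din (ty (D.π ⟨_, hg'⟩)) = true) : x ∈ D.C := by
  obtain ⟨k, hk⟩ := D.exists_pow hg hgr
  obtain ⟨l, hl⟩ := D.exists_pow hg' hgr'
  have h1 : (x⁻¹ * g * x) ^ k = x⁻¹ * D.u * x := by
    rw [← hk]; simpa using (conj_pow (i := k) (a := x⁻¹) (b := g))
  have h2 : orderOf ((x⁻¹ * g * x) ^ k) = 2 := by
    rw [h1, show x⁻¹ * D.u * x = MulAut.conj x⁻¹ D.u by simp, MulEquiv.orderOf_eq, D.ord]
  have h3 := pow_unique h2 (by rw [hl, D.ord] : orderOf ((x⁻¹ * g * x) ^ l) = 2)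
  rw [h1, hl] at h3
  refine Subgroup.mem_centralizer_singleton_iff.2 ?_
  calc x * D.u = x * (x⁻¹ * D.u * x) := by rw [h3]
    _ = D.u * x := by group

/-- The centralizer of a root lies in the centralizer of `u`. -/
theorem cent_le {g : G} (hg : g ∈ D.C) (hr : din (ty (D.π ⟨g, hg⟩)) = true) :
    Subgroup.centralizer ({g} : Set G) ≤ D.C := fun x hx => by
  obtain ⟨k, hk⟩ := D.exists_pow hg hr
  refine Subgroup.mem_centralizer_singleton_iff.2 ?_
  rw [← hk]
  exact ((show Commute x g from Subgroup.mem_centralizer_singleton_iff.1 hx).pow_right k).eq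

theorem card_C : Nat.card D.C = 480 * Nat.card D.π.ker := by
  rw [← D.π.ker.card_mul_index, Subgroup.index_ker, MonoidHom.range_eq_top.2 D.surj, Subgroup.card_top,
    card_Q, mul_comm]

theorem card_range : Nat.card D.p.range = 32 := by
  rw [← Nat.card_congr (MonoidHom.ofInjective D.p_inj).toEquiv, card_Semi]

include D in
theorem sylow_thirtytwo : ¬ 64 ∣ Nat.card G := by
  haveI : Fact (Nat.Prime 2) := ⟨Nat.prime_two⟩
  intro h64
  have hcard : Nat.card D.p.range = 2 ^ 5 := by rw [D.card_range]; norm_num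
  obtain ⟨R, hR, hle⟩ := Sylow.exists_subgroup_card_pow_succ (p := 2) (n := 5) (by simpa using h64) hcard
  have hidx : (D.p.range.subgroupOf R).index = 2 := by
    have := Subgroup.card_mul_index (D.p.range.subgroupOf R)
    rw [Nat.card_congr (Subgroup.subgroupOfEquivOfLe hle).toEquiv, hcard, hR] at this
    omega
  have hnorm := Subgroup.normal_of_index_eq_two hidx
  obtain ⟨qu, hqu⟩ : ∃ q : ↥Semi, toV (q : Q) = rep 2 :=
    ⟨⟨el 2, by show pS (toV (el 2)) = true; rw [toV_el]; decide⟩, toV_el 2⟩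
  have hRC : R ≤ D.C := by
    intro r hr
    have huP : D.u ∈ D.p.range := ⟨_, D.p_two hqu⟩
    obtain ⟨a, ha⟩ : r * D.u * r⁻¹ ∈ D.p.range :=
      hnorm.conj_mem ⟨D.u, hle huP⟩ huP ⟨r, hr⟩
    have ha' : toV (a : Q) = rep 2 := by
      refine semi_central _ (mem_sq a) ?_ ?_ ?_
      · rw [← toV_mul, ← toV_one]
        refine congrArg toV (congrArg Subtype.val (D.p_inj (a₁ := a * a) (a₂ := 1) ?_))
        rw [map_mul, ha, map_one, show r * D.u * r⁻¹ * (r * D.u * r⁻¹) = r * (D.u * D.u) * r⁻¹ by group,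
          D.u_sq]
        group
      · rw [← toV_one]
        intro e
        have h1 : a = 1 := Subtype.ext (toV_injective e)
        rw [h1, map_one] at ha
        exact D.u_ne_one (conj_eq_one_iff.1 ha.symm)
      · intro v hv
        obtain ⟨hv, hvS⟩ := Finset.mem_filter.1 hv
        obtain ⟨b, rfl⟩ := toV_surj (Finset.mem_filter.1 hv).2
        rw [← toV_mul, ← toV_mul]
        refine congrArg toV (congrArg Subtype.val (D.p_inj (a₁ := a * ⟨b, hvS⟩) (a₂ := ⟨b, hvS⟩ * a) ?_))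
        obtain ⟨c, hc⟩ : r⁻¹ * D.p ⟨b, hvS⟩ * r⁻¹⁻¹ ∈ D.p.range :=
          hnorm.conj_mem ⟨_, hle ⟨_, rfl⟩⟩ ⟨_, rfl⟩ ⟨r⁻¹, inv_mem hr⟩
        have hb : D.p ⟨b, hvS⟩ = r * D.p c * r⁻¹ := by rw [hc]; group
        rw [map_mul, map_mul, ha, hb,
          show r * D.u * r⁻¹ * (r * D.p c * r⁻¹) = r * (D.u * D.p c) * r⁻¹ by group,
          show r * D.p c * r⁻¹ * (r * D.u * r⁻¹) = r * (D.p c * D.u) * r⁻¹ by group,
          D.comm (D.p_mem c)]
    rw [D.p_two ha'] at ha
    refine Subgroup.mem_centralizer_singleton_iff.2 ?_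
    calc r * D.u = (r * D.u * r⁻¹) * r := by group
      _ = D.u * r := by rw [← ha]
  have := Subgroup.card_dvd_of_le hRC
  rw [hR, D.card_C] at this
  have h2 := (Nat.Coprime.pow_left 6 (Nat.prime_two.coprime_iff_not_dvd.2 D.odd)).dvd_of_dvd_mul_right this
  norm_num at h2

include D in
theorem exists_card_eq : ∃ m : ℕ, Odd m ∧ Nat.card G = 32 * m := by
  have h32 := Subgroup.card_subgroup_dvd_card D.p.range
  rw [D.card_range] at h32
  obtain ⟨m, hm⟩ := h32
  refine ⟨m, Nat.not_even_iff_odd.1 fun ⟨r, hr⟩ => D.sylow_thirtytwo ⟨r, ?_⟩, hm⟩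
  rw [hm, hr]; ring

/-- Conjugate images of elements of 2-power order. -/
theorem conj_of_ty {a b : G} (ha : a ∈ D.C) (hb : b ∈ D.C) (ha2 : ∃ k, orderOf a = 2 ^ k)
    (hb2 : ∃ k, orderOf b = 2 ^ k) (h : ty (D.π ⟨a, ha⟩) = ty (D.π ⟨b, hb⟩)) :
    ∃ g ∈ D.C, g * a * g⁻¹ = b := by
  obtain ⟨x, hx⟩ := isConj_el (D.π ⟨a, ha⟩)
  obtain ⟨y, hy⟩ := isConj_el (D.π ⟨b, hb⟩)
  obtain ⟨c, hc⟩ := D.surj (y⁻¹ * x)
  obtain ⟨k, hk⟩ := ha2
  obtain ⟨k', hk'⟩ := hb2
  obtain ⟨l, hl, e⟩ := conj_of_same_image D.π D.odd (t := c * ⟨a, ha⟩ * c⁻¹) (t' := ⟨b, hb⟩)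
    ⟨k, by rw [← MulAut.conj_apply, MulEquiv.orderOf_eq, ← Subgroup.orderOf_coe]; exact hk⟩
    ⟨k', by rw [← Subgroup.orderOf_coe]; exact hk'⟩ (by
      rw [map_mul, map_mul, map_inv, hc]
      rw [h] at hx
      generalize el (ty (D.π ⟨b, hb⟩)) = r at hx hy
      rw [← hx, ← hy]; group)
  refine ⟨(l * c : D.C), (l * c).2, ?_⟩
  have h1 : (l * c) * ⟨a, ha⟩ * (l * c)⁻¹ = (⟨b, hb⟩ : D.C) := by rw [← e]; group
  exact congrArg Subtype.val h1

theorem orderOf_p (q : ↥Semi) : ∃ k : ℕ, orderOf (D.p q) = 2 ^ k := by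
  rw [orderOf_injective D.p D.p_inj]
  have h := orderOf_dvd_natCard q
  rw [card_Semi] at h
  obtain ⟨k, -, hk⟩ := (Nat.dvd_prime_pow Nat.prime_two).1 (h.trans (show 32 ∣ 2 ^ 5 by norm_num))
  exact ⟨k, hk⟩

/-- All involutions are conjugate once the non-central class of the centralizer is fused to `u`. -/
theorem all_conj {x : ↥Semi} (hx : tyv (toV (x : Q)) = 6) (hfus : IsConj D.u (D.p x)) {z : G}
    (hz : orderOf z = 2) : IsConj D.u z := by
  classical
  haveI : Fact (Nat.Prime 2) := ⟨Nat.prime_two⟩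
  obtain ⟨m, hm, hG⟩ := D.exists_card_eq
  obtain ⟨S₀, hS₀⟩ := (IsPGroup.of_card (p := 2) (n := 5) (D.card_range.trans (by norm_num))).exists_le_sylow
  have hS₀c : Nat.card (S₀ : Subgroup G) = 32 := by
    rw [S₀.card_eq_multiplicity, hG, Nat.factorization_mul (by norm_num) hm.pos.ne', Finsupp.add_apply,
      Nat.factorization_eq_zero_of_not_dvd (n := m) (fun h => by obtain ⟨r, rfl⟩ := hm; omega),
      show (32 : ℕ) = 2 ^ 5 by norm_num, Nat.Prime.factorization_pow Nat.prime_two, Finsupp.single_eq_same,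
      add_zero]
  have hS₀eq : D.p.range = (S₀ : Subgroup G) := Subgroup.eq_of_le_of_card_ge hS₀ (by rw [hS₀c, D.card_range])
  obtain ⟨S, hS⟩ := (IsPGroup.of_card (p := 2) (n := 1) (show Nat.card (Subgroup.zpowers z) = 2 ^ 1 by
    rw [Nat.card_zpowers, hz]; norm_num)).exists_le_sylow
  obtain ⟨g, hg⟩ := MulAction.exists_smul_eq G S₀ S
  have hzS : z ∈ ((g • S₀ : Sylow 2 G) : Subgroup G) := hg.symm ▸ hS (Subgroup.mem_zpowers z)
  rw [Sylow.coe_subgroup_smul, Subgroup.mem_pointwise_smul_iff_inv_smul_mem, ← hS₀eq] at hzS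
  obtain ⟨a, ha⟩ := hzS
  rw [← map_inv, MulAut.smul_def, MulAut.conj_apply, inv_inv] at ha
  have ho : orderOf (g⁻¹ * z * g) = 2 := by
    have := MulEquiv.orderOf_eq (MulAut.conj g⁻¹) z
    rwa [MulAut.conj_apply, inv_inv, hz] at this
  rw [← ha, orderOf_injective D.p D.p_inj] at ho
  have hza : IsConj (D.p a) z := isConj_iff.2 ⟨g, by rw [ha]; group⟩
  refine IsConj.trans ?_ hza
  have h1 : a * a = 1 := by
    have := pow_orderOf_eq_one a
    rwa [ho, pow_two] at this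
  rcases semi_invol _ (mem_sq a) (by rw [← toV_mul, ← toV_one]; exact congrArg toV (congrArg Subtype.val h1))
    (fun e => by
      rw [show a = 1 from Subtype.ext (toV_injective (e.trans toV_one.symm)), orderOf_one] at ho
      omega) with e | e
  · rw [D.p_two (central_two _ (mem_units _) e)]
  · obtain ⟨c, -, hc⟩ := D.conj_of_ty (D.p_mem x) (D.p_mem a) (D.orderOf_p x) (D.orderOf_p a) (by
      rw [D.pi_p, D.pi_p]; exact hx.trans e.symm)
    exact hfus.trans (isConj_iff.2 ⟨c, hc⟩)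

end Data

end Cfsg.Agent.Invol.Wreath5Core
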