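import Cfsg.Agent.Lib.Invol.Wreath5Core.Induced

/-!
# An involution centraliser with image `GL(2,5)`: tables for the coefficient vectors

The vectors allowed by the bound and two parities, and quadratic forms separating them.
-/

set_option autoImplicit false
set_option maxRecDepth 100000

namespace Cfsg.Agent.Invol.Wreath5Core

open GL25

/-- Thirty two times the inverse Gram matrix. -/
def ginv : Fin 9 → Fin 9 → ℤ :=
  ![![24, 4, 0, 4, 0, 4, 4, 0, 0],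
    ![4, 19, -10, -1, -2, -7, -3, -2, 2],
    ![0, -10, 20, -2, 4, 10, 2, 4, -4],
    ![4, -1, -2, 19, -10, -3, -7, -2, 2],
    ![0, -2, 4, -10, 20, 2, 10, 4, -4],
    ![4, -7, 10, -3, 2, 19, -1, 2, -2],
    ![4, -3, 2, -7, 10, -1, 19, 2, -2],
    ![0, -2, 4, -2, 4, 2, 2, 12, 4],
    ![0, 2, -4, 2, -4, -2, -2, 4, 12]]

/-- The inverse Gram matrix by rows. -/
def ginvList : List (List ℤ) := List.ofFn fun i => List.ofFn (ginv i)

/-- Dot product. -/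
def ldot : List ℤ → List ℤ → ℤ
  | a :: as, b :: bs => a * b + ldot as bs
  | _, _ => 0

/-- The quadratic form. -/
def lquad (a : List ℤ) : ℤ := ldot a (ginvList.map fun r => ldot r a)

/-- The allowed vectors. -/
def adm : List (List ℤ) :=
  [[-1, 0, 0, 0, 0, 0, 0, 0, 0],
    [-1, 1, 0, 1, 0, 1, 1, 0, 0],
    [0, -1, -1, 0, 0, 0, 0, 0, -1],
    [0, -1, 0, -1, 0, -1, -1, 0, 0],
    [0, -1, 0, 0, 0, 0, 0, 0, 1],
    [0, 0, -1, 0, 0, 0, 0, 0, 0],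
    [0, 0, -1, 0, 0, 1, 0, 1, 0],
    [0, 0, -1, 0, 1, 0, 0, 0, 0],
    [0, 0, 0, -1, -1, 0, 0, 1, -1],
    [0, 0, 0, -1, 0, 0, 0, -1, 1],
    [0, 0, 0, 0, -1, 0, 0, 0, 0],
    [0, 0, 0, 0, -1, 0, 1, 0, 0],
    [0, 0, 0, 0, 0, -1, 0, 1, 0],
    [0, 0, 0, 0, 0, 0, -1, 0, 0],
    [0, 0, 0, 0, 0, 0, 0, 0, 0],
    [0, 0, 0, 0, 0, 0, 1, 0, 0],
    [0, 0, 0, 0, 0, 1, 0, -1, 0],
    [0, 0, 0, 0, 1, 0, -1, 0, 0],
    [0, 0, 0, 0, 1, 0, 0, 0, 0],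
    [0, 0, 0, 1, 0, 0, 0, 1, -1],
    [0, 0, 0, 1, 1, 0, 0, -1, 1],
    [0, 0, 1, 0, -1, 0, 0, 0, 0],
    [0, 0, 1, 0, 0, -1, 0, -1, 0],
    [0, 0, 1, 0, 0, 0, 0, 0, 0],
    [0, 1, 0, 0, 0, 0, 0, 0, -1],
    [0, 1, 0, 1, 0, 1, 1, 0, 0],
    [0, 1, 1, 0, 0, 0, 0, 0, 1],
    [1, -1, 0, -1, 0, -1, -1, 0, 0],
    [1, 0, 0, 0, 0, 0, 0, 0, 0]]

/-- All vectors below the bounds. -/
def vecs : List ℕ → List (List ℤ)
  | [] => [[]]
  | b :: bs => (List.range (2 * b + 1)).flatMap fun k => (vecs bs).map fun l => ((k : ℤ) - b) :: l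

/-- The bounds. -/
def bnd : List ℕ := [1, 1, 1, 1, 1, 1, 1, 2, 2]

/-- The two parities. -/
def lpar : List ℤ → Bool
  | [_, a1, _, a3, _, a5, _, a7, a8] => (a3 + a5 + a7) % 2 == 0 && (a1 + a5 + a7 + a8) % 2 == 0
  | _ => false

theorem adm_table : ((vecs bnd).all fun a => !lpar a || decide (32 < lquad a) || adm.contains a) = true := by
  decide +kernel

/-- The twelve vectors. -/
def reps : Fin 12 → Fin 9 → ℤ :=
  ![![0, 0, 0, 0, 0, 0, 1, 0, 0],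
    ![0, 0, 0, 0, 0, 1, 0, -1, 0],
    ![0, 0, 0, 0, 1, 0, -1, 0, 0],
    ![0, 0, 0, 0, 1, 0, 0, 0, 0],
    ![0, 0, 0, 1, 0, 0, 0, 1, -1],
    ![0, 0, 0, 1, 1, 0, 0, -1, 1],
    ![0, 0, 1, 0, 0, -1, 0, -1, 0],
    ![0, 0, 1, 0, 0, 0, 0, 0, 0],
    ![0, 1, 0, 0, 0, 0, 0, 0, -1],
    ![0, 1, 1, 0, 0, 0, 0, 0, 1],
    ![1, -1, 0, -1, 0, -1, -1, 0, 0],
    ![1, 0, 0, 0, 0, 0, 0, 0, 0]]

/-- The forms: twelve for the vectors which occur, two for those which do not. -/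
def forms : Fin 14 → List (Fin 9 × Fin 9 × ℤ) :=
  ![[(1, 3, -1), (4, 6, 1), (6, 6, 1)],
    [(1, 3, -1), (2, 5, 1), (5, 5, 1)],
    [(4, 6, -1)],
    [(2, 4, 1), (3, 4, -1), (4, 4, 1), (4, 6, 1)],
    [(1, 3, -1), (3, 3, 1), (3, 4, -1)],
    [(3, 4, 1)],
    [(2, 5, -1)],
    [(1, 2, -1), (2, 2, 1), (2, 4, 1), (2, 5, 1)],
    [(1, 1, 1), (1, 2, -1), (1, 3, -1)],
    [(1, 2, 1)],
    [(0, 6, -1)],
    [(0, 0, 1), (0, 6, 1)],
    [(2, 4, -1)],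
    [(0, 6, 1), (1, 3, 1)]]

/-- The value of a form. -/
def fval (k : Fin 14) (a : Fin 9 → ℤ) : ℤ := ((forms k).map fun t => t.2.2 * (a t.1 * a t.2.1)).sum

/-- How often the vectors occur. -/
def ftot (k : Fin 14) : ℤ := if (k : ℕ) < 12 then 1 else 0

theorem ftot_spec : ∀ k, ((forms k).map fun t => t.2.2 * gram t.1 t.2.1).sum = ftot k := by decide +kernel

/-- A list as a function. -/
def ofL (l : List ℤ) : Fin 9 → ℤ := fun i => l.getD i 0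

theorem fval_adm : ∀ l ∈ adm, ∀ k : Fin 14, fval k (ofL l) = 0 ∨ fval k (ofL l) = 1 := by decide +kernel

theorem fval_iff : ∀ l ∈ adm, ∀ k : Fin 12, fval (k.castLE (by omega)) (ofL l) = 1 →
    (∀ i, ofL l i = reps k i) ∨ (∀ i, ofL l i = -reps k i) := by decide +kernel

theorem fval_cover : ∀ l ∈ adm, (∀ i, ofL l i = 0) ∨ ∃ k : Fin 14, fval k (ofL l) = 1 := by decide +kernel

theorem fval_reps : ∀ k : Fin 12, ∀ j : Fin 12,
    fval (j.castLE (by omega)) (reps k) = if j = k then 1 else 0 := by decide +kernel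

end Cfsg.Agent.Invol.Wreath5Core
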