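import Mathlib

/-!
# An involution centraliser with image `GL(2,5)`: the degree equation
-/

set_option autoImplicit false
set_option maxRecDepth 100000

namespace Cfsg.Agent.Invol.Wreath5Core

/-- An integral root of a quadratic with a congruence is the given one. -/
def quadOnly (a b c r w : ℤ) : Bool :=
  let d := b * b - 4 * a * c
  let q : ℤ := (Nat.sqrt d.toNat : ℤ)
  decide (q * q ≠ d) ||
    [q, -q].all fun y => decide ((y - b) % (2 * a) ≠ 0) || decide (((y - b) / (2 * a)) % 32 ≠ r) ||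
      decide ((y - b) / (2 * a) = w)

theorem quadOnly_spec {a b c r w x : ℤ} (ha : a ≠ 0) (h : quadOnly a b c r w = true)
    (hx : a * x * x + b * x + c = 0) (hr : x % 32 = r) : x = w := by
  set d := b * b - 4 * a * c with hd
  set y := 2 * a * x + b with hy
  have hyd : y * y = d := by rw [hy, hd]; linear_combination 4 * a * hx
  obtain ⟨q, hq⟩ : ∃ q : ℕ, q = Nat.sqrt d.toNat := ⟨_, rfl⟩
  have hn : d.toNat = y.natAbs * y.natAbs := by rw [← hyd, ← Int.natAbs_mul_self]; rfl
  have hqy : (q : ℤ) = y ∨ (q : ℤ) = -y := by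
    rw [hq, hn, Nat.sqrt_eq]
    exact Int.natAbs_eq y |>.imp (fun e => e.symm) (fun e => by omega)
  have hqq : (q : ℤ) * q = d := by rcases hqy with e | e <;> rw [e, ← hyd] <;> ring
  have hx' : (y - b) / (2 * a) = x := by
    rw [show y - b = x * (2 * a) by rw [hy]; ring, Int.mul_ediv_cancel _ (by omega)]
  have hm : (y - b) % (2 * a) = 0 := by rw [show y - b = x * (2 * a) by rw [hy]; ring, Int.mul_emod_left]
  simp only [quadOnly, ← hd, ← hq, hqq, ne_eq, not_true_eq_false, decide_false, Bool.false_or, List.all_cons,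
    List.all_nil, Bool.and_true, Bool.and_eq_true, Bool.or_eq_true, decide_eq_true_eq] at h
  rcases hqy with e | e
  · have h1 := h.1
    rw [e, hm, hx', hr] at h1
    simpa using h1
  · have h1 := h.2
    rw [e, neg_neg, hm, hx', hr] at h1
    simpa using h1

theorem table_s : ∀ k : Fin 5, quadOnly ((-67 + 32 * (k : ℕ) : ℤ) - 25)
    (((-67 + 32 * (k : ℕ) : ℤ) - 25) * ((-67 + 32 * (k : ℕ) : ℤ) - 1) + 72 * (-67 + 32 * (k : ℕ) : ℤ))
    (-49 * (-67 + 32 * (k : ℕ) : ℤ) * ((-67 + 32 * (k : ℕ) : ℤ) - 1)) 31 31 = true := by decide +kernel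

theorem table_l : ∀ k : Fin 9, quadOnly ((-129 + 32 * (k : ℕ) : ℤ) - 49)
    (((-129 + 32 * (k : ℕ) : ℤ) - 49) * ((-129 + 32 * (k : ℕ) : ℤ) - 1) + 96 * (-129 + 32 * (k : ℕ) : ℤ))
    (-25 * (-129 + 32 * (k : ℕ) : ℤ) * ((-129 + 32 * (k : ℕ) : ℤ) - 1)) 29 125 = true := by decide +kernel

theorem table_m : ∀ k : Fin 23, quadOnly (-((-357 + 32 * (k : ℕ) : ℤ) + 121))
    (((-357 + 32 * (k : ℕ) : ℤ) + 1) * ((-357 + 32 * (k : ℕ) : ℤ) + 121) + 24 * (-357 + 32 * (k : ℕ) : ℤ))
    (-49 * (-357 + 32 * (k : ℕ) : ℤ) * ((-357 + 32 * (k : ℕ) : ℤ) + 1)) 31 31 = true := by decide +kernel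

/-- The equation has one admissible solution. -/
theorem degree_arith {l s m : ℤ} (hl : l % 32 = 31) (hs : s % 32 = 29) (hm : m = l + s - 1)
    (h : l * s * m - 25 * (l * m) - 49 * (s * m) + 121 * (l * s) = 0) : l = 31 ∧ s = 125 ∧ m = 155 := by
  have hl0 : l ≠ 0 := by omega
  have hs0 : s ≠ 0 := by omega
  have hm0 : m ≠ 0 := by omega
  have hfin : l = 31 → l = 31 ∧ s = 125 ∧ m = 155 := by
    intro e
    refine ⟨e, ?_⟩
    have := quadOnly_spec (by norm_num) (table_l 5) (x := s) (by subst hm e; rw [show ((((5 : Fin 9) : ℕ)) : ℤ) = 5 from rfl]; linear_combination h) hs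
    omega
  have hsmall : |l| ≤ 147 ∨ |s| ≤ 75 ∨ |m| ≤ 363 := by
    by_contra hno
    push Not at hno
    obtain ⟨h1, h2, h3⟩ := hno
    have e : |l * s * m| = |25 * (l * m) + 49 * (s * m) - 121 * (l * s)| := by
      rw [show l * s * m = 25 * (l * m) + 49 * (s * m) - 121 * (l * s) by linear_combination h]
    have a1 := abs_sub (25 * (l * m) + 49 * (s * m)) (121 * (l * s))
    have a2 := abs_add_le (25 * (l * m)) (49 * (s * m))
    simp only [abs_mul, abs_of_pos (show (0 : ℤ) < 25 by norm_num), abs_of_pos (show (0 : ℤ) < 49 by norm_num),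
      abs_of_pos (show (0 : ℤ) < 121 by norm_num)] at e a1 a2
    have b1 : 0 < |l| * |m| := by positivity
    have b2 : 0 < |s| * |m| := by positivity
    have b3 : 0 < |l| * |s| := by positivity
    nlinarith [mul_lt_mul_of_pos_left h1 b2, mul_lt_mul_of_pos_left h2 b1, mul_lt_mul_of_pos_left h3 b3]
  rcases hsmall with hb | hb | hb <;> rw [abs_le] at hb
  · obtain ⟨k, hk⟩ : ∃ k : Fin 9, l = -129 + 32 * (k : ℕ) := ⟨⟨((l + 129) / 32).toNat, by omega⟩, by simp only; omega⟩
    have := quadOnly_spec (by omega) (table_l k) (x := s) (by rw [← hk]; subst hm; linear_combination h) hs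
    subst this
    refine ⟨?_, rfl, ?_⟩ <;> subst hm
    · by_contra hne
      have key : ∀ k : Fin 9, (k : ℕ) ≠ 5 → let x : ℤ := -129 + 32 * (k : ℕ)
          x * 125 * (x + 125 - 1) - 25 * (x * (x + 125 - 1)) - 49 * (125 * (x + 125 - 1)) + 121 * (x * 125) ≠ 0 := by
        decide +kernel
      exact key k (by omega) (hk ▸ h)
    · by_contra hne
      have key : ∀ k : Fin 9, (k : ℕ) ≠ 5 → let x : ℤ := -129 + 32 * (k : ℕ)
          x * 125 * (x + 125 - 1) - 25 * (x * (x + 125 - 1)) - 49 * (125 * (x + 125 - 1)) + 121 * (x * 125) ≠ 0 := by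
        decide +kernel
      exact key k (by omega) (hk ▸ h)
  · obtain ⟨k, hk⟩ : ∃ k : Fin 5, s = -67 + 32 * (k : ℕ) := ⟨⟨((s + 67) / 32).toNat, by omega⟩, by simp only; omega⟩
    exact hfin (quadOnly_spec (by omega) (table_s k) (x := l) (by rw [← hk]; subst hm; linear_combination h) hl)
  · obtain ⟨k, hk⟩ : ∃ k : Fin 23, m = -357 + 32 * (k : ℕ) :=
      ⟨⟨((m + 357) / 32).toNat, by omega⟩, by simp only; omega⟩
    refine hfin (quadOnly_spec (by omega) (table_m k) (x := l) ?_ hl)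
    rw [← hk]
    obtain rfl : s = m + 1 - l := by omega
    linear_combination h

end Cfsg.Agent.Invol.Wreath5Core
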