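import Cfsg.Agent.Lib.Invol.Wreath5Core.Sections

/-!
# An involution centraliser with image `GL(2,5)`: fusion and congruences

With the classes of order four fused, a character is determined on the Sylow subgroup by six values; restricting
to linear characters gives congruences for the coefficients.
-/

set_option autoImplicit false
set_option maxRecDepth 100000
set_option linter.style.haveILetI false
set_option linter.unusedSectionVars false

namespace Cfsg.Agent.Invol.Wreath5Core

open scoped ComplexConjugate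
open Cfsg GL25 Cfsg.Agent.Char Cfsg.Agent.Block

universe u

/-! ### Tables -/

/-- The root fused to each class of the Sylow subgroup. -/
def styp (j : Fin 24) : Fin 6 :=
  if j = 1 ∨ j = 11 then 0 else if j = 3 ∨ j = 13 then 2 else if j = 4 ∨ j = 17 ∨ j = 23 then 3
  else if j = 7 then 4 else if j = 5 then 5 else 1

theorem sq_cases : ∀ v ∈ sq, v ≠ ov → tyv v = 6 ∨ tyv v = 11 ∨ tyv v = 13 ∨ tyv v = 17 ∨ tyv v = 23 ∨
    tyv v = rsec (styp (tyv v)) := by decide +kernel

theorem inv_cases : ∀ v ∈ sq, (tyv v = 13 → tyv (iv v) = 11) ∧ (tyv v = 23 → tyv (iv v) = 17) ∧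
    (tyv v = rsec 0 → tyv (iv v) = rsec 2) ∧ (tyv v = rsec 3 → tyv (iv v) = rsec 3) := by decide +kernel

/-- Antidiagonal matrices count two. -/
def antiTwo : V → Fin 4
  | (_, b, _, _) => if b = 0 then 0 else 2

/-- The logarithms of three linear characters. -/
def lgS : Fin 3 → V → Fin 4 :=
  ![fun _ => 0, antiTwo, fun v => dlog (dv v) + antiTwo v]

theorem lgS_mul : ∀ k, ∀ v ∈ sq, ∀ w ∈ sq, lgS k (mv v w) = lgS k v + lgS k w := by decide +kernel

/-- The powers of the imaginary unit, inverted. -/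
def gIneg : Fin 4 → ℤ × ℤ := ![(1, 0), (0, -1), (-1, 0), (0, 1)]

/-- The forms of the congruences. -/
def cform : Fin 3 → Fin 9 → ℤ :=
  ![![-28, -15, 26, -83, 98, 11, 31, 42, -42], ![4, 33, -38, -19, 34, -5, -1, -6, 6],
    ![4, -15, 26, -3, 2, -5, -1, -6, -42]]

theorem cform_spec : ∀ k i,
    ∑ v ∈ sq.erase ov, gmul (gIneg (lgS k v)) (wv (styp (tyv v)) i) = (cform k i, 0) := by decide +kernel

variable {G : Type u} [Group G]

namespace Data

variable (D : Data G)

/-- The element `diag(2, 1)` of the Sylow subgroup. -/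
noncomputable def qA : ↥Semi :=
  ⟨(toV_surj (v := ((2, 0, 0, 1) : V)) (by decide)).choose, by
    show pS (toV _) = true
    rw [(toV_surj (v := ((2, 0, 0, 1) : V)) (by decide)).choose_spec]; decide⟩

/-- The element `diag(2, -1)` of the Sylow subgroup. -/
noncomputable def qB : ↥Semi :=
  ⟨(toV_surj (v := ((2, 0, 0, 4) : V)) (by decide)).choose, by
    show pS (toV _) = true
    rw [(toV_surj (v := ((2, 0, 0, 4) : V)) (by decide)).choose_spec]; decide⟩

theorem toV_qA : toV ((qA : ↥Semi) : Q) = (2, 0, 0, 1) := (toV_surj (v := ((2, 0, 0, 1) : V)) (by decide)).choose_spec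

theorem toV_qB : toV ((qB : ↥Semi) : Q) = (2, 0, 0, 4) := (toV_surj (v := ((2, 0, 0, 4) : V)) (by decide)).choose_spec

/-- The fusion of the elements of order four with squares conjugate to `u`. -/
structure Fusion : Prop where
  hA : IsConj (D.p qA) (D.t 3)
  hB : IsConj (D.p qB) (D.t 0)

variable [Finite G]

theorem conj_p {a b : ↥Semi} (h : ty (a : Q) = ty (b : Q)) : IsConj (D.p a) (D.p b) := by
  obtain ⟨c, -, hc⟩ := D.conj_of_ty (D.p_mem a) (D.p_mem b) (D.orderOf_p a) (D.orderOf_p b)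
    (by rw [D.pi_p, D.pi_p, h])
  exact isConj_iff.2 ⟨c, hc⟩

omit [Finite G] in
theorem conj_inv {a b : G} (h : IsConj a b) : IsConj a⁻¹ b⁻¹ := by
  obtain ⟨c, hc⟩ := isConj_iff.1 h
  exact isConj_iff.2 ⟨c, by rw [← hc]; group⟩

variable {D}

/-- The fusion of the non-central involutions. -/
theorem Fusion.fus_x (f : D.Fusion) : ∃ x : ↥Semi, tyv (toV (x : Q)) = 6 ∧ IsConj D.u (D.p x) := by
  refine ⟨qB * qB, ?_, ?_⟩
  · rw [show ((qB * qB : ↥Semi) : Q) = (qB : Q) * (qB : Q) from rfl, toV_mul, toV_qB]; decide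
  · obtain ⟨c, hc⟩ := isConj_iff.1 f.hB.symm
    refine isConj_iff.2 ⟨c, ?_⟩
    rw [map_mul, ← hc]
    have h2 : D.t 0 * D.t 0 = D.u := by
      rw [t, ← map_mul]
      refine D.p_two ?_
      rw [show ((secQ 0 * secQ 0 : ↥Semi) : Q) = el (rsec 0) * el (rsec 0) from rfl, toV_mul, toV_el]; decide
    rw [← h2]; group

/-- Every element of the Sylow subgroup is fused to a root. -/
theorem Fusion.conj_root (f : D.Fusion) {q : ↥Semi} (hq : q ≠ 1) :
    IsConj (D.p q) (D.t (styp (ty (q : Q)))) := by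
  have hne : toV (q : Q) ≠ ov := fun e => hq (Subtype.ext (toV_injective (e.trans toV_one.symm)))
  have hinv : toV ((q⁻¹ : ↥Semi) : Q) = iv (toV (q : Q)) := toV_inv _
  have hroot : ∀ {q : ↥Semi} (s : Fin 6), ty (q : Q) = rsec s → IsConj (D.p q) (D.t s) := fun {q} s h =>
    D.conj_p (h.trans (ty_el (rsec s)).symm)
  have hA : ∀ {q : ↥Semi}, ty (q : Q) = 17 → IsConj (D.p q) (D.t 3) := fun {q} h =>
    (D.conj_p (b := qA) (h.trans (by rw [ty, toV_qA]; decide))).trans f.hA
  have hB : ∀ {q : ↥Semi}, ty (q : Q) = 11 → IsConj (D.p q) (D.t 0) := fun {q} h =>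
    (D.conj_p (b := qB) (h.trans (by rw [ty, toV_qB]; decide))).trans f.hB
  have hsinv : ∀ s, toV (((secQ s)⁻¹ : ↥Semi) : Q) = iv (rep (rsec s)) := fun s => by
    rw [show (((secQ s)⁻¹ : ↥Semi) : Q) = (el (rsec s))⁻¹ from rfl, toV_inv, toV_el]
  rcases sq_cases _ (mem_sq q) hne with e | e | e | e | e | e
  · rw [show styp (ty (q : Q)) = 1 by rw [ty, e]; decide]
    obtain ⟨x, hx6, hx⟩ := f.fus_x
    rw [show D.t 1 = D.u from D.p_two (toV_el 2)]
    exact (D.conj_p (a := q) (b := x) (e.trans hx6.symm)).trans hx.symm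
  · rw [show styp (ty (q : Q)) = 0 by rw [ty, e]; decide]
    exact hB e
  · rw [show styp (ty (q : Q)) = 2 by rw [ty, e]; decide]
    have h1 := conj_inv (hB (q := q⁻¹) (by rw [ty, hinv]; exact (inv_cases _ (mem_sq q)).1 e))
    rw [map_inv, inv_inv] at h1
    refine h1.trans ?_
    rw [t, ← map_inv]
    exact hroot 2 (by rw [ty, hsinv]; decide)
  · rw [show styp (ty (q : Q)) = 3 by rw [ty, e]; decide]
    exact hA e
  · rw [show styp (ty (q : Q)) = 3 by rw [ty, e]; decide]
    have h1 := conj_inv (hA (q := q⁻¹) (by rw [ty, hinv]; exact (inv_cases _ (mem_sq q)).2.1 e))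
    rw [map_inv, inv_inv] at h1
    refine h1.trans ?_
    rw [t, ← map_inv]
    exact hroot 3 (by rw [ty, hsinv]; decide)
  · exact hroot _ e

variable [Fintype G] [Fintype ↥D.C] {M : Ideal AlgInt}

/-- Congruences for the coefficients of a character of the principal block. -/
theorem Fusion.congr (f : D.Fusion) (hM : IsPModular 2 M) {χ : IrrCharacter G} (hχ : χ ∈ principalBlock M G)
    (k : Fin 3) : ∃ r : ℤ, 32 * r = (charDegree (χ : G → ℂ) : ℤ) + ∑ i, cform k i * D.co i χ := by
  classical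
  have hl : ∀ v ∈ units.filter (fun v => pS v = true), ∀ w ∈ units.filter (fun v => pS v = true),
      lgS k (mv v w) = lgS k v + lgS k w := lgS_mul k
  let l : ↥Semi →* ℂˣ := logHom Complex.I I_pow_four (lgS k) hl
  obtain ⟨r, hr⟩ := IsChar.classInner_nat (IsChar.comp D.p (irr_isChar χ) : IsCharacter ↥Semi fun q => (χ : G → ℂ) (D.p q))
    (Star.isCharacter_hom l)
  refine ⟨r, ?_⟩
  have hterm : ∀ q : ↥Semi, (χ : G → ℂ) (D.p q) * conj (l q : ℂ) =
      (fun v => if v = ov then (charDegree (χ : G → ℂ) : ℂ)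
        else ∑ i, toC (gmul (gIneg (lgS k v)) (wv (styp (tyv v)) i)) * (D.co i χ : ℂ)) (toV (q : Q)) := by
    intro q
    beta_reduce
    have hlq : conj (l q : ℂ) = toC (gIneg (lgS k (toV (q : Q)))) := by
      rw [show (l q : ℂ) = Complex.I ^ (lgS k (toV (q : Q)) : ℕ) from logHom_apply .., map_pow, Complex.conj_I]
      generalize lgS k (toV (q : Q)) = e
      fin_cases e <;> simp [toC, gIneg, pow_succ]
    by_cases hq : q = 1
    · subst hq
      have hlg : ∀ k, lgS k ov = 0 := by decide +kernel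
      rw [if_pos (show toV ((1 : ↥Semi) : Q) = ov from toV_one), map_one, map_one, Units.val_one, map_one, mul_one,
        charDeg_spec']
    · have hne : toV (q : Q) ≠ ov := fun e => hq (Subtype.ext (toV_injective (e.trans toV_one.symm)))
      rw [if_neg hne, IsClass.eq_of_isConj (irr_classFun χ) (f.conj_root hq), ← D.value_forms hM _ hχ,
        Finset.sum_mul]
      refine Finset.sum_congr rfl fun i _ => ?_
      rw [toC_gmul, hlq, ty]; ring
  have hbij : ∀ g : V → ℂ, ∑ q : ↥Semi, g (toV (q : Q)) = ∑ v ∈ sq, g v := fun g =>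
    Finset.sum_bij (fun q _ => toV (q : Q)) (fun q _ => mem_sq q)
      (fun a _ b _ e => Subtype.ext (toV_injective e)) (fun v hv => by
        obtain ⟨hvu, hvS⟩ := Finset.mem_filter.1 hv
        obtain ⟨g, rfl⟩ := toV_surj (Finset.mem_filter.1 hvu).2
        exact ⟨⟨g, hvS⟩, Finset.mem_univ _, rfl⟩) fun _ _ => rfl
  rw [classInner, card_Semi, Finset.sum_congr rfl fun q _ => hterm q,
    hbij (fun v => if v = ov then (charDegree (χ : G → ℂ) : ℂ)
      else ∑ i, toC (gmul (gIneg (lgS k v)) (wv (styp (tyv v)) i)) * (D.co i χ : ℂ)),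
    ← Finset.add_sum_erase sq _ (show ov ∈ sq by decide), if_pos rfl,
    Finset.sum_congr rfl fun v hv => if_neg (Finset.ne_of_mem_erase hv), Finset.sum_comm] at hr
  have hsum : ∀ i : Fin 9, ∑ v ∈ sq.erase ov, toC (gmul (gIneg (lgS k v)) (wv (styp (tyv v)) i)) * (D.co i χ : ℂ) =
      ((cform k i * D.co i χ : ℤ) : ℂ) := fun i => by
    rw [← Finset.sum_mul, ← toC_sum, cform_spec]
    simp [toC]
  simp only [hsum] at hr
  have h2 : ((32 * (r : ℤ) : ℤ) : ℂ) =
      (((charDegree (χ : G → ℂ) : ℤ) + ∑ i, cform k i * D.co i χ : ℤ) : ℂ) := by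
    push_cast at hr ⊢
    linear_combination (-32 : ℂ) * hr
  exact_mod_cast h2

end Data

end Cfsg.Agent.Invol.Wreath5Core
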