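import Cfsg.Agent.Lib.Invol.Wreath5Core.AdmTables
import Cfsg.Agent.Lib.Invol.Wreath5Core.Congruence

/-!
# An involution centraliser with image `GL(2,5)`: twelve characters

The coefficient vectors of an irreducible character are, up to sign, twelve known ones, each occurring once.
-/

set_option autoImplicit false
set_option maxRecDepth 100000
set_option linter.style.haveILetI false
set_option linter.unusedSectionVars false

namespace Cfsg.Agent.Invol.Wreath5Core

open scoped ComplexConjugate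
open Cfsg GL25 Cfsg.Agent.Char Cfsg.Agent.Block

universe u

theorem ldot_ofFn : ∀ {n : ℕ} (f g : Fin n → ℤ), ldot (List.ofFn f) (List.ofFn g) = ∑ i, f i * g i := by
  intro n
  induction n with
  | zero => intro f g; simp [ldot]
  | succ n ih => intro f g; rw [List.ofFn_succ, List.ofFn_succ, ldot, ih, Fin.sum_univ_succ]

theorem lquad_ofFn (a : Fin 9 → ℤ) : lquad (List.ofFn a) = ∑ i, a i * ∑ j, ginv i j * a j := by
  rw [lquad, ginvList, List.map_ofFn]
  exact (ldot_ofFn _ _).trans (Finset.sum_congr rfl fun i _ => congrArg (a i * ·) (ldot_ofFn _ _))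

theorem gram_ginv : ∀ i l, ∑ j, gram i j * ginv j l = if i = l then 32 else 0 := by decide +kernel

theorem mem_vecs : ∀ {bs : List ℕ} {l : List ℤ},
    List.Forall₂ (fun (b : ℕ) (x : ℤ) => -(b : ℤ) ≤ x ∧ x ≤ (b : ℤ)) bs l → l ∈ vecs bs := by
  intro bs l h
  induction h with
  | nil => simp [vecs]
  | @cons b x bs l hb _ ih =>
    simp only [vecs, List.mem_flatMap, List.mem_map]
    refine ⟨(x + b).toNat, ?_, l, ih, ?_⟩
    · exact List.mem_flatMap.2 ⟨(x + b).toNat, List.mem_range.2 (by omega), List.mem_singleton.2 rfl⟩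
    congr 1; omega

/-- The bounds as a function. -/
def bndF : Fin 9 → ℕ := ![1, 1, 1, 1, 1, 1, 1, 2, 2]

theorem gram_bnd : ∀ i, gram i i < ((bndF i : ℤ) + 1) * ((bndF i : ℤ) + 1) := by decide +kernel

theorem ofFn_mem_vecs (a : Fin 9 → ℤ) (h : ∀ i, -(bndF i : ℤ) ≤ a i ∧ a i ≤ (bndF i : ℤ)) :
    List.ofFn a ∈ vecs bnd := by
  refine mem_vecs ?_
  rw [show bnd = List.ofFn bndF from rfl, List.forall₂_iff_get]
  refine ⟨by simp, fun i h1 h2 => ?_⟩
  simp only [List.get_eq_getElem, List.getElem_ofFn]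
  exact h _

/-- The coefficient vector outside the principal block by three parameters. -/
def nbv (a b c : ℤ) : List ℤ := [a, b, c, b + c, -c, b, b + c, -2 * a - b - (b + c), 2 * b + c]

theorem nb_table : ∀ a b c : Fin 3, lquad (nbv ((a : ℕ) - 1) ((b : ℕ) - 1) ((c : ℕ) - 1)) ≤ 32 →
    a = 1 ∧ b = 1 ∧ c = 1 := by decide +kernel

theorem zero_mem_adm : List.ofFn (fun _ : Fin 9 => (0 : ℤ)) ∈ adm := by decide +kernel

theorem ofL_ofFn (a : Fin 9 → ℤ) : ofL (List.ofFn a) = a := funext fun i => by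
  rw [ofL, List.getD_eq_getElem _ _ (by simp), List.getElem_ofFn]

theorem fval_neg (k : Fin 14) (a : Fin 9 → ℤ) (e : ℤ) (he : e = 1 ∨ e = -1) :
    fval k (fun i => e * a i) = fval k a := by
  unfold fval
  refine congrArg List.sum (List.map_congr_left fun t _ => ?_)
  rcases he with rfl | rfl <;> ring

variable {G : Type u} [Group G]

namespace Data

variable (D : Data G) [Finite G] [Fintype G] [Fintype ↥D.C] {M : Ideal AlgInt}

/-- The coefficient vector. -/
noncomputable def cvec (χ : IrrCharacter G) : Fin 9 → ℤ := fun i => D.co i χ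

theorem cvec_bound (χ : IrrCharacter G) (i : Fin 9) : -(bndF i : ℤ) ≤ D.cvec χ i ∧ D.cvec χ i ≤ (bndF i : ℤ) := by
  classical
  have h1 : D.co i χ * D.co i χ ≤ gram i i := by
    rw [← D.co_dot i i]
    exact Finset.single_le_sum (f := fun χ => D.co i χ * D.co i χ) (fun χ _ => mul_self_nonneg _) (Finset.mem_univ χ)
  have h2 := gram_bnd i
  constructor
  · by_contra hc
    have : (bndF i : ℤ) + 1 ≤ -D.co i χ := by
      simp only [cvec] at hc; omega
    nlinarith
  · by_contra hc
    have : (bndF i : ℤ) + 1 ≤ D.co i χ := by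
      simp only [cvec] at hc; omega
    nlinarith

theorem cvec_lquad (χ : IrrCharacter G) : lquad (List.ofFn (D.cvec χ)) ≤ 32 := by
  classical
  rw [lquad_ofFn]
  set x : Fin 9 → ℤ := fun i => ∑ j, ginv i j * D.cvec χ j with hx
  set q : ℤ := ∑ i, D.cvec χ i * x i with hq
  have hGx : ∀ i, ∑ j, gram i j * x j = 32 * D.cvec χ i := fun i => by
    simp only [hx, Finset.mul_sum, ← mul_assoc]
    rw [Finset.sum_comm]
    simp only [← Finset.sum_mul, gram_ginv, ite_mul, zero_mul, Finset.sum_ite_eq, Finset.mem_univ, if_true]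
  have h1 : ∑ ξ : IrrCharacter G, (∑ i, x i * D.co i ξ) * (∑ j, x j * D.co j ξ) = 32 * q := by
    calc ∑ ξ : IrrCharacter G, (∑ i, x i * D.co i ξ) * (∑ j, x j * D.co j ξ)
        = ∑ ξ : IrrCharacter G, ∑ i, ∑ j, x i * (x j * (D.co i ξ * D.co j ξ)) := by
          refine Finset.sum_congr rfl fun ξ _ => ?_
          rw [Finset.sum_mul_sum]
          exact Finset.sum_congr rfl fun i _ => Finset.sum_congr rfl fun j _ => by ring
      _ = ∑ i, x i * ∑ j, gram i j * x j := by
          rw [Finset.sum_comm]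
          refine Finset.sum_congr rfl fun i _ => ?_
          rw [Finset.sum_comm, Finset.mul_sum]
          refine Finset.sum_congr rfl fun j _ => ?_
          rw [← Finset.mul_sum, ← Finset.mul_sum, D.co_dot]; ring
      _ = 32 * q := by
          rw [hq, Finset.mul_sum]
          refine Finset.sum_congr rfl fun i _ => ?_
          rw [hGx]; ring
  have h2 : (∑ i, x i * D.co i χ) * (∑ j, x j * D.co j χ) ≤ 32 * q :=
    h1 ▸ Finset.single_le_sum (f := fun ξ : IrrCharacter G => (∑ i, x i * D.co i ξ) * (∑ j, x j * D.co j ξ))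
      (fun ξ _ => mul_self_nonneg _) (Finset.mem_univ χ)
  have h3 : ∑ i, x i * D.co i χ = q := Finset.sum_congr rfl fun i _ => mul_comm _ _
  rw [h3] at h2
  show q ≤ 32
  nlinarith

/-- Outside the principal block the coefficients vanish. -/
theorem cvec_outside (hM : IsPModular 2 M) {χ : IrrCharacter G} (hχ : χ ∉ principalBlock M G) (i : Fin 9) :
    D.co i χ = 0 := by
  have hz : ∀ s, (∑ j, (tv s j).1 * D.co j χ) = 0 ∧ (∑ j, (tv s j).2 * D.co j χ) = 0 := fun s => by
    have h1 := congrArg Complex.re (D.co_zero_forms hM s hχ)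
    have h2 := congrArg Complex.im (D.co_zero_forms hM s hχ)
    simp [toC, Complex.re_sum, Complex.im_sum] at h1 h2
    exact ⟨by exact_mod_cast h1, by exact_mod_cast h2⟩
  obtain ⟨r0, i0⟩ := hz 0
  obtain ⟨r1, -⟩ := hz 1
  obtain ⟨r3, -⟩ := hz 3
  obtain ⟨r4, i4⟩ := hz 4
  simp [Fin.sum_univ_succ, tv] at r0 i0 r1 r3 r4 i4
  have hb := D.cvec_bound χ
  have e0 := hb 0
  have e1 := hb 1
  have e2 := hb 2
  simp only [cvec, bndF, Matrix.cons_val_zero, Matrix.cons_val_one, Matrix.cons_val, Nat.cast_one] at e0 e1 e2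
  have hl : List.ofFn (D.cvec χ) = nbv (D.co 0 χ) (D.co 1 χ) (D.co 2 χ) := by
    rw [nbv]
    simp only [List.ofFn_succ, List.ofFn_zero, cvec, List.cons.injEq, true_and, and_true]
    simp only [Fin.succ_zero_eq_one, Fin.succ_one_eq_two]
    refine ⟨?_, ?_, ?_, ?_, ?_, ?_⟩ <;> simp only [Fin.reduceSucc] <;> omega
  obtain ⟨a, ha⟩ : ∃ a : Fin 3, D.co 0 χ = ((a : ℕ) : ℤ) - 1 :=
    ⟨⟨(D.co 0 χ + 1).toNat, by omega⟩, by simp only; omega⟩
  obtain ⟨b, hb'⟩ : ∃ b : Fin 3, D.co 1 χ = ((b : ℕ) : ℤ) - 1 :=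
    ⟨⟨(D.co 1 χ + 1).toNat, by omega⟩, by simp only; omega⟩
  obtain ⟨c, hc⟩ : ∃ c : Fin 3, D.co 2 χ = ((c : ℕ) : ℤ) - 1 :=
    ⟨⟨(D.co 2 χ + 1).toNat, by omega⟩, by simp only; omega⟩
  obtain ⟨rfl, rfl, rfl⟩ := nb_table a b c (by
    have := D.cvec_lquad χ
    rw [hl, ha, hb', hc] at this
    exact this)
  simp only [Fin.val_one, Nat.cast_one, sub_self] at ha hb' hc
  fin_cases i <;> simp only [Fin.zero_eta, Fin.mk_one, Fin.reduceFinMk] <;> omega

variable {D} in
/-- Every coefficient vector is allowed. -/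
theorem Fusion.cvec_mem (f : D.Fusion) (hM : IsPModular 2 M) (χ : IrrCharacter G) :
    List.ofFn (D.cvec χ) ∈ adm := by
  by_cases hχ : χ ∈ principalBlock M G
  · obtain ⟨r0, h0⟩ := f.congr hM hχ 0
    obtain ⟨r1, h1⟩ := f.congr hM hχ 1
    obtain ⟨r2, h2⟩ := f.congr hM hχ 2
    simp [Fin.sum_univ_succ, cform] at h0 h1 h2
    have hp : lpar (List.ofFn (D.cvec χ)) = true := by
      simp only [List.ofFn_succ, List.ofFn_zero, lpar, cvec, Bool.and_eq_true, beq_iff_eq]
      simp only [Fin.succ_zero_eq_one, Fin.succ_one_eq_two, Fin.reduceSucc]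
      constructor <;> omega
    have ht := List.all_eq_true.1 adm_table _ (ofFn_mem_vecs _ (D.cvec_bound χ))
    simp only [hp, Bool.not_true, Bool.false_or, Bool.or_eq_true, decide_eq_true_eq, List.contains_iff_mem] at ht
    have hq := D.cvec_lquad χ
    exact ht.resolve_left (by omega)
  · rw [show D.cvec χ = fun _ => (0 : ℤ) from funext fun i => D.cvec_outside hM hχ i]
    exact zero_mem_adm

theorem sum_forms (L : List (Fin 9 × Fin 9 × ℤ)) :
    ∑ χ : IrrCharacter G, (L.map fun t => t.2.2 * (D.cvec χ t.1 * D.cvec χ t.2.1)).sum =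
      (L.map fun t => t.2.2 * gram t.1 t.2.1).sum := by
  classical
  induction L with
  | nil => simp
  | cons t L ih =>
    simp only [List.map_cons, List.sum_cons, Finset.sum_add_distrib, ih, ← Finset.mul_sum]
    simp only [cvec, D.co_dot]

/-- Twelve characters carrying the coefficients. -/
structure Chars (M : Ideal AlgInt) where
  /-- the characters -/
  ch : Fin 12 → IrrCharacter G
  /-- their signs -/
  ε : Fin 12 → ℤ
  inj : Function.Injective ch
  sgn : ∀ k, ε k = 1 ∨ ε k = -1
  vec : ∀ k i, D.co i (ch k) = ε k * reps k i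
  others : ∀ χ, χ ∉ Set.range ch → ∀ i, D.co i χ = 0
  triv : ch 0 = trivialIrr G
  sgn0 : ε 0 = 1
  mem : ∀ k, ch k ∈ principalBlock M G

variable {D} in
theorem Fusion.exists_chars (f : D.Fusion) (hM : IsPModular 2 M) : Nonempty (D.Chars M) := by
  classical
  have htot : ∀ k, ∑ χ : IrrCharacter G, fval k (D.cvec χ) = ftot k := fun k =>
    (D.sum_forms (forms k)).trans (ftot_spec k)
  have h01 : ∀ χ k, fval k (D.cvec χ) = 0 ∨ fval k (D.cvec χ) = 1 := fun χ k => by
    have := fval_adm _ (f.cvec_mem hM χ) k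
    rwa [ofL_ofFn] at this
  have huniq : ∀ k χ χ', fval k (D.cvec χ) = 1 → fval k (D.cvec χ') = 1 → χ = χ' := by
    intro k χ χ' h h'
    by_contra hne
    have hle : fval k (D.cvec χ) + fval k (D.cvec χ') ≤ ∑ ξ : IrrCharacter G, fval k (D.cvec ξ) := by
      rw [← Finset.sum_pair (f := fun ξ => fval k (D.cvec ξ)) hne]
      exact Finset.sum_le_sum_of_subset_of_nonneg (Finset.subset_univ _) fun ξ _ _ => by
        rcases h01 ξ k with e | e <;> omega
    rw [htot, h, h'] at hle
    simp only [ftot] at hle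
    split_ifs at hle <;> omega
  have hex : ∀ k : Fin 12, ∃ χ, fval (k.castLE (by omega)) (D.cvec χ) = 1 := by
    intro k
    by_contra hno
    push Not at hno
    have := htot (k.castLE (by omega))
    rw [Finset.sum_eq_zero fun ξ _ => (h01 ξ _).resolve_right (hno ξ), ftot, if_pos (by simpa using k.2)] at this
    exact zero_ne_one this
  choose ch hch using hex
  have hvec : ∀ k : Fin 12, ∃ e : ℤ, (e = 1 ∨ e = -1) ∧ ∀ i, D.co i (ch k) = e * reps k i := by
    intro k
    rcases fval_iff _ (f.cvec_mem hM (ch k)) k (by rw [ofL_ofFn]; exact hch k) with h | h <;> rw [ofL_ofFn] at h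
    · exact ⟨1, .inl rfl, fun i => (h i).trans (one_mul _).symm⟩
    · exact ⟨-1, .inr rfl, fun i => (h i).trans (neg_one_mul _).symm⟩
  choose ε hε hco using hvec
  have hf : ∀ j k : Fin 12, fval (j.castLE (by omega)) (D.cvec (ch k)) = if j = k then 1 else 0 := fun j k => by
    rw [show D.cvec (ch k) = fun i => ε k * reps k i from funext (hco k), fval_neg _ _ _ (hε k), fval_reps]
  have h0 : ch 0 = trivialIrr G := by
    refine huniq _ _ _ (hch 0) ?_
    rw [show D.cvec (trivialIrr G) = reps 0 from funext fun i => (D.co_trivial i).trans rfl, fval_reps, if_pos rfl]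
  refine ⟨⟨ch, ε, fun j k e => ?_, hε, hco, fun χ hχ i => ?_, h0, ?_, fun k => ?_⟩⟩
  · by_contra hne
    have := hf j k
    rw [← e, hch j, if_neg hne] at this
    exact one_ne_zero this
  · rcases fval_cover _ (f.cvec_mem hM χ) with h | ⟨k, hk⟩
    · have := h i
      rwa [ofL_ofFn] at this
    · rw [ofL_ofFn] at hk
      exfalso
      by_cases hk12 : (k : ℕ) < 12
      · exact hχ ⟨⟨k, hk12⟩, huniq _ _ _ (hch ⟨k, hk12⟩) hk⟩
      · have := htot k
        rw [ftot, if_neg hk12] at this
        have h1 := (Finset.sum_eq_zero_iff_of_nonneg fun ξ _ => by rcases h01 ξ k with e | e <;> omega).1 this χ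
          (Finset.mem_univ _)
        omega
  · have := hco 0 6
    rw [h0, D.co_trivial] at this
    simpa [reps] using this.symm
  · by_contra hk
    have h1 := hch k
    rw [show D.cvec (ch k) = fun _ => (0 : ℤ) from funext fun i => D.cvec_outside hM hk i] at h1
    simp [fval] at h1

end Data

end Cfsg.Agent.Invol.Wreath5Core
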