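import Cfsg.Agent.Lib.Invol.Wreath5Core.Equation
import Cfsg.Agent.Lib.Invol.Wreath5Core.Arith

/-!
# An involution centraliser with image `GL(2,5)`: degrees

The twelve characters have determined degrees.
-/

set_option autoImplicit false
set_option maxRecDepth 100000
set_option linter.style.haveILetI false
set_option linter.unusedSectionVars false

namespace Cfsg.Agent.Invol.Wreath5Core

open scoped ComplexConjugate
open Cfsg GL25 Cfsg.Agent.Char Cfsg.Agent.Block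

universe u

/-- The signed values at the roots. -/
def uval (s : Fin 6) (k : Fin 12) : ℤ × ℤ := ∑ i, gmul (wv s i) (reps k i, 0)

theorem uval_one : ∀ k, uval 1 k =
    (![1, -5, 5, 6, 7, -11, -1, 6, 1, -5, 4, -4] k, 0) := by decide +kernel

theorem uval_three : ∀ k, uval 3 k = (![1, 1, 1, 2, -1, 1, 1, 2, -1, 1, 0, 0] k, 0) := by decide +kernel

theorem uval_four : ∀ k, uval 4 k =
    ![(1, 0), (0, -1), (-1, 0), (0, 0), (-1, 0), (-1, 0), (0, 1), (0, 0), (0, 1), (0, 1), (0, 0), (0, 0)] k := by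
  decide +kernel

variable {G : Type u} [Group G]

namespace Data

variable {D : Data G} [Finite G] [Fintype G] [Fintype ↥D.C] {M : Ideal AlgInt}

/-- The signed degrees. -/
noncomputable def Chars.N (c : D.Chars M) (k : Fin 12) : ℤ := c.ε k * (charDegree (c.ch k : G → ℂ) : ℤ)

theorem Chars.sum_chars (c : D.Chars M) {A : Type*} [AddCommMonoid A] (F : IrrCharacter G → A)
    (h0 : ∀ χ, χ ∉ Set.range c.ch → F χ = 0) : ∑ χ, F χ = ∑ k, F (c.ch k) := by
  classical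
  rw [← Finset.sum_image (fun a _ b _ e => c.inj e)]
  refine (Finset.sum_subset (Finset.subset_univ _) fun χ _ hχ => h0 χ ?_).symm
  simpa using hχ

theorem Chars.N_ne (c : D.Chars M) (k : Fin 12) : c.N k ≠ 0 := by
  have := charDeg_pos (c.ch k)
  rcases c.sgn k with e | e <;> rw [Chars.N, e] <;> omega

theorem Chars.deg_eq (c : D.Chars M) (k : Fin 12) :
    (charDegree (c.ch k : G → ℂ) : ℤ) = c.ε k * c.N k := by
  rcases c.sgn k with e | e <;> rw [Chars.N, e] <;> ring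

theorem Chars.N_zero (c : D.Chars M) : c.N 0 = 1 := by
  have h : (charDegree (c.ch 0 : G → ℂ) : ℂ) = 1 := by rw [← charDeg_spec', c.triv]; rfl
  rw [Chars.N, c.sgn0, one_mul]
  exact_mod_cast h

theorem Chars.rel (c : D.Chars M) (i : Fin 9) : ∑ k, reps k i * c.N k = 0 := by
  rw [← D.co_deg i, c.sum_chars _ fun χ hχ => by rw [c.others χ hχ i, zero_mul]]
  exact Finset.sum_congr rfl fun k _ => by rw [c.vec, Chars.N]; ring

/-- The linear relations between the degrees. -/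
theorem Chars.shape (c : D.Chars M) : c.N 3 = c.N 1 - 1 ∧ c.N 4 = c.N 1 ∧ c.N 5 = -(c.N 1 + c.N 2 - 1) ∧
    c.N 6 = c.N 1 + c.N 2 - 1 ∧ c.N 7 = -(c.N 1 + (c.N 1 + c.N 2 - 1)) ∧ c.N 8 = -(c.N 1 + c.N 2 - 1) ∧
    c.N 9 = c.N 1 := by
  have h := c.rel
  have e0 := h 0
  have e1 := h 1
  have e2 := h 2
  have e3 := h 3
  have e4 := h 4
  have e5 := h 5
  have e6 := h 6
  have e7 := h 7
  have e8 := h 8
  simp [Fin.sum_univ_succ, reps] at e0 e1 e2 e3 e4 e5 e6 e7 e8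
  have := c.N_zero
  omega

theorem Fusion.N_mod (f : D.Fusion) (hM : IsPModular 2 M) (c : D.Chars M) :
    c.N 1 % 32 = 31 ∧ c.N 2 % 32 = 29 := by
  obtain ⟨r, hr⟩ := f.congr hM (c.mem 1) 0
  obtain ⟨r', hr'⟩ := f.congr hM (c.mem 2) 0
  rw [c.deg_eq] at hr hr'
  simp [Fin.sum_univ_succ, c.vec, reps, cform] at hr hr'
  rcases c.sgn 1 with e | e <;> rw [e] at hr <;> rcases c.sgn 2 with e' | e' <;> rw [e'] at hr' <;> omega

theorem Chars.value (c : D.Chars M) (hM : IsPModular 2 M) (s : Fin 6) (k : Fin 12) :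
    (c.ch k : G → ℂ) (D.t s) = (c.ε k : ℂ) * toC (uval s k) := by
  rw [← D.value_forms hM s (c.mem k), uval, toC_sum, Finset.mul_sum]
  refine Finset.sum_congr rfl fun i _ => ?_
  rw [c.vec, toC_gmul, show toC ((reps k i, 0) : ℤ × ℤ) = (reps k i : ℂ) by simp [toC]]
  push_cast; ring

/-- The weighted sum of a root over the block. -/
theorem Chars.block_sum (c : D.Chars M) (hM : IsPModular 2 M) (s : Fin 6) :
    ∑ᶠ χ ∈ principalBlock M G, (χ : G → ℂ) D.u ^ 2 / (χ : G → ℂ) 1 * (χ : G → ℂ) (D.t s) =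
      ∑ k, toC (uval 1 k) ^ 2 * toC (uval s k) / (c.N k : ℂ) := by
  classical
  have hu : D.u = D.t 1 := (D.p_two (q := secQ 1) (toV_el _)).symm
  rw [finsum_mem_block, Finset.sum_filter, c.sum_chars]
  · refine Finset.sum_congr rfl fun k _ => ?_
    rw [if_pos (c.mem k), hu, c.value hM, c.value hM, charDeg_spec',
      show (charDegree (c.ch k : G → ℂ) : ℂ) = ((c.ε k * c.N k : ℤ) : ℂ) by rw [← c.deg_eq, Int.cast_natCast]]
    have hε : (c.ε k : ℂ) ≠ 0 := by rcases c.sgn k with e | e <;> rw [e] <;> norm_num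
    have hN : (c.N k : ℂ) ≠ 0 := Int.cast_ne_zero.2 (c.N_ne k)
    have hε2 : (c.ε k : ℂ) ^ 2 = 1 := by rcases c.sgn k with e | e <;> rw [e] <;> norm_num
    push_cast
    field_simp
    linear_combination (toC (uval 1 k) ^ 2 * toC (uval s k)) * hε2
  · intro χ hχ
    split_ifs with hb
    · rw [hu, ← D.value_forms hM s hb, Finset.sum_eq_zero fun i _ => by rw [c.others χ hχ i, Int.cast_zero, mul_zero],
        mul_zero]
    · rfl

/-- The first equation. -/
theorem Fusion.degree_eq (f : D.Fusion) (hM : IsPModular 2 M) (c : D.Chars M) :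
    c.N 1 = 31 ∧ c.N 2 = 125 ∧ c.N 1 + c.N 2 - 1 = 155 := by
  obtain ⟨h3, h4, h5, h6, h7, h8, h9⟩ := c.shape
  obtain ⟨m1, m2⟩ := f.N_mod hM c
  refine degree_arith m1 m2 rfl ?_
  have hm : c.N 1 + c.N 2 - 1 ≠ 0 := by omega
  have h := f.equation_e hM
  rw [c.block_sum hM 4] at h
  simp [Fin.sum_univ_succ, uval_one, uval_four, toC] at h
  simp only [Fin.reduceSucc, h3, h4, h5, h6, h7, h8, h9, c.N_zero] at h
  push_cast at h
  obtain ⟨l, hl⟩ : ∃ l : ℤ, l = c.N 1 := ⟨_, rfl⟩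
  obtain ⟨n, hn⟩ : ∃ n : ℤ, n = c.N 2 := ⟨_, rfl⟩
  obtain ⟨m, hm'⟩ : ∃ m : ℤ, m = l + n - 1 := ⟨_, rfl⟩
  rw [← hl, ← hn] at h hm ⊢
  rw [← hm'] at hm ⊢
  have hmc : (l : ℂ) + (n : ℂ) - 1 = (m : ℂ) := by rw [hm']; push_cast; ring
  simp only [hmc] at h
  have hl0 : (l : ℂ) ≠ 0 := Int.cast_ne_zero.2 (by omega)
  have hn0 : (n : ℂ) ≠ 0 := Int.cast_ne_zero.2 (by omega)
  have hm0 : (m : ℂ) ≠ 0 := Int.cast_ne_zero.2 hm
  field_simp at h
  have h' : ((l * n * m - 25 * (l * m) - 49 * (n * m) + 121 * (l * n) : ℤ) : ℂ) = 0 := by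
    push_cast
    linear_combination h
  exact_mod_cast h'

/-- The second sum. -/
theorem Fusion.sum_d (f : D.Fusion) (hM : IsPModular 2 M) (c : D.Chars M) :
    ∑ᶠ χ ∈ principalBlock M G, (χ : G → ℂ) D.u ^ 2 / (χ : G → ℂ) 1 * (χ : G → ℂ) (D.t 3) = 2304 / 930 := by
  obtain ⟨h3, h4, h5, h6, h7, h8, h9⟩ := c.shape
  obtain ⟨e1, e2, e3⟩ := f.degree_eq hM c
  rw [c.block_sum hM 3]
  simp [Fin.sum_univ_succ, uval_one, uval_three, toC]
  simp only [Fin.reduceSucc, h3, h4, h5, h6, h7, h8, h9, c.N_zero, e1, e2]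
  norm_num

/-- A character of degree 31 in the principal block. -/
theorem Fusion.exists_small (f : D.Fusion) (hM : IsPModular 2 M) :
    ∃ χ ∈ principalBlock M G, χ ≠ trivialIrr G ∧ charDegree (χ : G → ℂ) = 31 := by
  obtain ⟨c⟩ := f.exists_chars hM
  obtain ⟨e1, -, -⟩ := f.degree_eq hM c
  refine ⟨c.ch 1, c.mem 1, fun e => ?_, ?_⟩
  · rw [← c.triv] at e
    exact absurd (c.inj e) (by decide)
  · have h := c.deg_eq 1
    rw [e1] at h
    rcases c.sgn 1 with e | e <;> rw [e] at h <;> omega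

end Data

end Cfsg.Agent.Invol.Wreath5Core
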