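import Cfsg.Agent.Lib.Invol.Wreath5Core.Coeffs
import Cfsg.Agent.Lib.Block.Dihedral.OrderFormula

/-!
# An involution centraliser with image `GL(2,5)`: the coset equations

Pairs of involutions with product in the cosets over an element of order eight with irreducible image, and over an
element of order four with split image.
-/

set_option autoImplicit false
set_option maxRecDepth 100000
set_option linter.style.haveILetI false
set_option linter.unusedSectionVars false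

namespace Cfsg.Agent.Invol.Wreath5Core

open scoped ComplexConjugate
open Cfsg GL25 Cfsg.Agent.Char Cfsg.Agent.Block

universe u

/-! ### Tables -/

theorem dv_mul : ∀ v w : V, dv (mv v w) = dv v * dv w := by
  rintro ⟨a, b, c, d⟩ ⟨a', b', c', d'⟩; simp only [dv, mv]; ring

/-- The element of order three commuting with the root of order eight. -/
def w3 : V := (2, 1, 3, 2)

/-- The powers of `w3`. -/
def w3set : Finset V := {ov, w3, mv w3 w3}

theorem w3_facts : dv w3 = 1 ∧ mv w3 (mv w3 w3) = ov ∧ mv w3 w3 ≠ ov ∧ w3 ≠ ov ∧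
    mv (rep 7) w3 = mv w3 (rep 7) ∧
    (units.filter fun v => mv v w3 = mv w3 v).card = 24 := by decide +kernel

theorem cent_seven : ∀ v ∈ units, mv v (rep 7) = mv (rep 7) v → mv v w3 = mv w3 v := by decide +kernel

theorem w3_root : ∀ v ∈ w3set, din (tyv (mv v (iv (rep 7)))) = true ∧
    dv (mv v (iv (rep 7))) * dv (mv v (iv (rep 7))) ≠ 1 ∧ dv v = 1 := by decide +kernel

theorem seven_det : dv (iv (rep 7)) * dv (iv (rep 7)) ≠ 1 := by decide +kernel

/-- The split element of order four. -/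
def d4 : V := (2, 0, 0, 3)

theorem d4_facts : pS d4 = true ∧ tyv d4 = 4 ∧ din (tyv (iv d4)) = true := by decide +kernel

theorem d4_comm : ∀ w ∈ units, mv w d4 = mv d4 w → pS w = true ∧ (mv w d4 = mv d4 w → mv (mv w w) (mv w w) = ov) := by
  decide +kernel


theorem d4_invert : ∀ w ∈ units, mv (mv w (iv d4)) (iv w) = d4 → pS w = true := by decide +kernel

theorem d4_pair : ∀ w ∈ sq, ((tyv w = 2 ∨ tyv w = 6) ∧ (tyv (mv w (iv d4)) = 2 ∨ tyv (mv w (iv d4)) = 6)) →
    (∃ b : ZMod 5, w = (0, b, b * b * b, 0)) ∧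
      (∃ b : ZMod 5, mv w (iv d4) = (0, b, b * b * b, 0)) := by
  decide +kernel

theorem d4_count : (sq.filter fun w => (tyv w = 2 ∨ tyv w = 6) ∧
    (tyv (mv w (iv d4)) = 2 ∨ tyv (mv w (iv d4)) = 6)).card = 4 := by decide +kernel

theorem anti_conj : ∀ w ∈ sq, (∃ b : ZMod 5, w = (0, b, b * b * b, 0)) →
    ∃ z ∈ sq, w = mv (mv z (0, 1, 1, 0)) (iv z) := by decide +kernel

theorem invol_table : ∀ w ∈ sq, mv w w = ov → w ≠ ov → tyv w = 2 ∨ tyv w = 6 := semi_invol

variable {G : Type u} [Group G]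

namespace Data

variable (D : Data G) [Finite G]

omit [Finite G] in
/-- The preimage in the group. -/
def pre (X : Subgroup Q) : Subgroup G := (X.comap D.π).map D.C.subtype

omit [Finite G] in
theorem mem_pre {X : Subgroup Q} {g : G} (hg : g ∈ D.C) : g ∈ D.pre X ↔ D.π ⟨g, hg⟩ ∈ X :=
  ⟨fun ⟨x, hx, he⟩ => by rw [show (⟨g, hg⟩ : ↥D.C) = x from Subtype.ext he.symm]; exact hx,
    fun h => ⟨⟨g, hg⟩, h, rfl⟩⟩

omit [Finite G] in
theorem pre_le (X : Subgroup Q) : D.pre X ≤ D.C := Subgroup.map_subtype_le _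

theorem card_pre (X : Subgroup Q) : Nat.card (D.pre X) = Nat.card X * Nat.card D.π.ker := by
  rw [pre, ← Nat.card_congr (Subgroup.equivMapOfInjective _ _ (Subgroup.subtype_injective _)).toEquiv]
  have h1 := (X.comap D.π).card_mul_index
  rw [Subgroup.index_comap_of_surjective _ D.surj, D.card_C, ← card_Q, ← X.card_mul_index,
    show Nat.card X * X.index * Nat.card D.π.ker = Nat.card X * Nat.card D.π.ker * X.index by ring] at h1
  exact Nat.eq_of_mul_eq_mul_right (Nat.pos_of_ne_zero Subgroup.index_ne_zero_of_finite) h1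

omit [Finite G] in
/-- An inverting element of a power of a root lies in the centralizer. -/
theorem mem_of_invert {a w : G} (ha : orderOf a = 2) (haw : orderOf (a * w) = 2) (hw : w ∈ D.C)
    {k : ℕ} (hk : w ^ k = D.u) : a ∈ D.C ∧ a * w * a⁻¹ = w⁻¹ := by
  have hai : a⁻¹ = a := inv_eq_of_mul_eq_one_left (by
    have := pow_orderOf_eq_one a; rwa [ha, pow_two] at this)
  have h1 : a * w * a⁻¹ = w⁻¹ := by
    have h' := pow_orderOf_eq_one (a * w)
    rw [haw, pow_two] at h'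
    rw [hai, eq_inv_iff_mul_eq_one, mul_assoc (a * w) a w]
    exact h'
  refine ⟨Subgroup.mem_centralizer_singleton_iff.2 (mul_inv_eq_iff_eq_mul.1 ?_), h1⟩
  rw [← hk, ← conj_pow, h1, inv_pow, hk, D.u_inv]

omit [Finite G] in
theorem pi_invert {a w : G} (ha : a ∈ D.C) (hw : w ∈ D.C) (h : a * w * a⁻¹ = w⁻¹) :
    D.π ⟨a, ha⟩ * D.π ⟨w, hw⟩ * (D.π ⟨a, ha⟩)⁻¹ = (D.π ⟨w, hw⟩)⁻¹ := by
  rw [← map_inv, ← map_inv, ← map_mul, ← map_mul]
  exact congrArg D.π (Subtype.ext h)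

omit [Finite G] in
/-- Involutions in a coset have images squaring to one. -/
theorem pi_invol {l x : G} (hl : l ∈ D.C) (hx : x ∈ D.C) (h : orderOf (l * x) = 2) :
    D.π ⟨l, hl⟩ * D.π ⟨x, hx⟩ * (D.π ⟨l, hl⟩ * D.π ⟨x, hx⟩) = 1 := by
  have := pow_orderOf_eq_one (l * x)
  rw [h, pow_two] at this
  rw [← map_mul, ← map_mul, ← map_one D.π]
  exact congrArg D.π (Subtype.ext this)

/-- The determinant. -/
noncomputable def dh : Q →* ZMod 5 where
  toFun q := dv (toV q)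
  map_one' := by rw [toV_one]; decide
  map_mul' q r := by rw [toV_mul, dv_mul]

variable [Fintype G] [Fintype ↥D.C] {M : Ideal AlgInt}

variable {D} in
/-- Over the root of order eight with irreducible image there are no pairs. -/
theorem Fusion.equation_e (f : D.Fusion) (hM : IsPModular 2 M) :
    ∑ᶠ χ ∈ principalBlock M G, (χ : G → ℂ) D.u ^ 2 / (χ : G → ℂ) 1 * (χ : G → ℂ) (D.t 4) = 0 := by
  classical
  haveI : Fact (Nat.Prime 2) := ⟨Nat.prime_two⟩
  obtain ⟨W, hW⟩ := toV_surj (v := w3) (by decide)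
  obtain ⟨hdet, hW3, hW2, hW1, hW7, hcard⟩ := w3_facts
  have hWord : orderOf W = 3 := by
    refine orderOf_eq_prime_pow (p := 3) (n := 0) (fun h => hW1 ?_) ?_
    · rw [pow_zero, pow_one] at h
      rw [← hW, h, toV_one]
    · refine toV_injective ?_
      rw [show (3 : ℕ) ^ (0 + 1) = 3 by norm_num, pow_succ', pow_two, toV_mul, toV_mul, hW, toV_one]
      exact hW3
  have hWmem : ∀ q ∈ Subgroup.zpowers W, toV q ∈ w3set := by
    intro q hq
    obtain ⟨n, rfl⟩ := Subgroup.mem_zpowers_iff.1 hq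
    rw [← zpow_mod_orderOf, hWord]
    have h0 := Int.emod_nonneg n (show ((3 : ℕ) : ℤ) ≠ 0 by norm_num)
    have h3 := Int.emod_lt_of_pos n (show (0 : ℤ) < ((3 : ℕ) : ℤ) by norm_num)
    obtain ⟨j, hj⟩ : ∃ j : ℕ, n % ((3 : ℕ) : ℤ) = (j : ℤ) := ⟨_, (Int.toNat_of_nonneg h0).symm⟩
    rw [hj, zpow_natCast]
    have hj3 : j < 3 := by omega
    interval_cases j
    · rw [pow_zero, toV_one]; simp [w3set]
    · rw [pow_one, hW]; simp [w3set]
    · rw [pow_two, toV_mul, hW]; simp [w3set]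
  have hdW : ∀ q ∈ Subgroup.zpowers W, dh q = 1 := fun q hq => (w3_root _ (hWmem q hq)).2.2
  let L : Subgroup G := D.pre (Subgroup.zpowers W)
  let C : Subgroup G := D.pre (Subgroup.centralizer ({W} : Set Q))
  let P : Subgroup G := Subgroup.zpowers (D.t 4)
  cases nonempty_fintype ↥L
  cases nonempty_fintype ↥P
  have h7 : (el 7 : Q) ∈ Subgroup.centralizer ({W} : Set Q) :=
    Subgroup.mem_centralizer_singleton_iff.2 (toV_injective (by rw [toV_mul, toV_mul, toV_el, hW]; exact hW7))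
  have ht4 : orderOf (D.t 4) = 8 := by
    rw [t, orderOf_injective D.p D.p_inj, ← Subgroup.orderOf_coe]
    show orderOf (el 7) = 8
    refine orderOf_eq_prime_pow (p := 2) (n := 2) (fun h => ?_) ?_
    · have h' := congrArg toV h
      simp only [show (2 : ℕ) ^ 2 = 4 by norm_num, pow_succ, pow_zero, one_mul, toV_mul, toV_el, toV_one] at h'
      revert h'; decide
    · refine toV_injective ?_
      simp only [show (2 : ℕ) ^ (2 + 1) = 8 by norm_num, pow_succ, pow_zero, one_mul, toV_mul, toV_el, toV_one]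
      decide
  have hC24 : Nat.card (Subgroup.centralizer ({W} : Set Q)) = 24 := by
    rw [← hcard, ← Nat.card_eq_finsetCard]
    refine Nat.card_congr (Equiv.ofBijective (fun q => ⟨toV (q : Q), Finset.mem_filter.2 ⟨mem_units _, ?_⟩⟩)
      ⟨fun a b h => Subtype.ext (toV_injective (congrArg Subtype.val h)), fun v => ?_⟩)
    · rw [← hW, ← toV_mul, ← toV_mul, Subgroup.mem_centralizer_singleton_iff.1 q.2]
    · obtain ⟨hv1, hv2⟩ := Finset.mem_filter.1 v.2
      obtain ⟨q, hq⟩ := toV_surj (Finset.mem_filter.1 hv1).2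
      exact ⟨⟨q, Subgroup.mem_centralizer_singleton_iff.2 (toV_injective (by
        rw [toV_mul, toV_mul, hq, hW]; exact hv2))⟩, Subtype.ext hq⟩
  have hLodd : ¬ 2 ∣ Nat.card L := by
    rw [D.card_pre, Nat.card_zpowers, hWord]
    exact fun h => ((Nat.Prime.dvd_mul Nat.prime_two).1 h).elim (by norm_num) D.odd
  have o : Dih.Odd2 L C P := by
    refine ⟨hLodd, ?_, ?_, ?_, ?_, ?_⟩
    · refine Subgroup.map_mono (Subgroup.comap_mono ?_)
      rw [Subgroup.zpowers_le, Subgroup.mem_centralizer_singleton_iff]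
    · intro c hc
      obtain ⟨c, hc', rfl⟩ := hc
      have hcW : Commute (D.π c) W := Subgroup.mem_centralizer_singleton_iff.1 hc'
      refine Subgroup.mem_normalizer_iff.2 fun x => ⟨?_, ?_⟩
      · rintro ⟨x, hx, rfl⟩
        refine ⟨c * x * c⁻¹, ?_, by simp⟩
        obtain ⟨n, hn⟩ := Subgroup.mem_zpowers_iff.1 (Subgroup.mem_comap.1 hx)
        rw [SetLike.mem_coe, Subgroup.mem_comap, map_mul, map_mul, map_inv, ← hn,
          (hcW.zpow_right n).eq, mul_inv_cancel_right]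
        exact zpow_mem (Subgroup.mem_zpowers W) n
      · rintro ⟨y, hy, e⟩
        simp only [Subgroup.coe_subtype] at e
        refine ⟨c⁻¹ * y * c, ?_, ?_⟩
        · obtain ⟨n, hn⟩ := Subgroup.mem_zpowers_iff.1 (Subgroup.mem_comap.1 hy)
          rw [SetLike.mem_coe, Subgroup.mem_comap, map_mul, map_mul, map_inv, ← hn, mul_assoc,
            ← (hcW.zpow_right n).eq, inv_mul_cancel_left]
          exact zpow_mem (Subgroup.mem_zpowers W) n
        · simp only [Subgroup.coe_subtype, Subgroup.coe_mul, Subgroup.coe_inv] at e ⊢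
          rw [e]; group
    · rw [Subgroup.zpowers_le]
      exact (D.mem_pre (D.t_mem 4)).2 (by rw [D.pi_t]; exact h7)
    · refine Subgroup.inf_eq_bot_of_coprime ?_
      rw [show Nat.card P = 2 ^ 3 by rw [Nat.card_zpowers, ht4]; norm_num]
      exact (Nat.Coprime.pow_left _ (Nat.prime_two.coprime_iff_not_dvd.2 hLodd)).symm
    · rw [D.card_pre, D.card_pre, hC24, Nat.card_zpowers, Nat.card_zpowers, hWord, ht4]; ring
  have hcy : Subgroup.centralizer ({D.t 4} : Set G) ≤ C := fun g hg => by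
    refine (D.mem_pre (D.H_le 4 hg)).2 (Subgroup.mem_centralizer_singleton_iff.2 (toV_injective ?_))
    rw [toV_mul, toV_mul, hW]
    refine cent_seven _ (mem_units _) ?_
    show mv (toV (D.πs 4 ⟨g, hg⟩)) (rep (rsec 4)) = mv (rep (rsec 4)) (toV (D.πs 4 ⟨g, hg⟩))
    rw [← toV_el (rsec 4), ← toV_mul, ← toV_mul]
    exact congrArg toV (D.πs_comm 4 _)
  have hidx : ∃ k : ℕ, (L.subgroupOf (Subgroup.centralizer ({D.t 4} : Set G))).index = 2 ^ k := by
    refine (Nat.dvd_prime_pow Nat.prime_two).1 (?_ : _ ∣ 2 ^ 3) |>.imp fun k hk => hk.2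
    have hsub : L.subgroupOf (D.H 4) = (Subgroup.zpowers W).comap (D.πs 4) := by
      ext g; exact D.mem_pre (D.H_le 4 g.2)
    rw [hsub, Subgroup.index_comap]
    have hrange : (D.πs 4).range = Subgroup.centralizer ({W} : Set Q) := by
      refine le_antisymm ?_ ?_
      · rintro _ ⟨g, rfl⟩
        exact (D.mem_pre (D.H_le 4 g.2)).1 (hcy g.2)
      · intro q hq
        refine D.exists_over 4 (toV_injective ?_)
        have key : ∀ v ∈ units, mv v w3 = mv w3 v → mv v (rep 7) = mv (rep 7) v := by decide +kernel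
        rw [toV_mul, toV_mul, toV_el]
        refine key _ (mem_units _) ?_
        rw [← hW, ← toV_mul, ← toV_mul]
        exact congrArg toV (Subgroup.mem_centralizer_singleton_iff.1 hq)
    rw [hrange]
    have h := Subgroup.card_mul_index ((Subgroup.zpowers W).subgroupOf (Subgroup.centralizer ({W} : Set Q)))
    rw [hC24, Nat.card_congr (Subgroup.subgroupOfEquivOfLe (show Subgroup.zpowers W ≤ _ by
      rw [Subgroup.zpowers_le, Subgroup.mem_centralizer_singleton_iff])).toEquiv, Nat.card_zpowers, hWord] at h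
    rw [Subgroup.relIndex]
    exact ⟨1, by omega⟩
  have hloc : ∀ a : G, ∀ l : ↥L, orderOf a = 2 → orderOf (a * ((l : G) * (D.t 4)⁻¹)) = 2 → a ∈ C := by
    intro a l ha hal
    have hlC := D.pre_le _ l.2
    have hl := hWmem _ ((D.mem_pre hlC).1 l.2)
    have hC : (l : G) * (D.t 4)⁻¹ ∈ D.C := mul_mem hlC (inv_mem (D.t_mem 4))
    have e : toV (D.π ⟨_, hC⟩) = mv (toV (D.π ⟨l, hlC⟩)) (iv (rep 7)) := by
      rw [show (⟨_, hC⟩ : ↥D.C) = ⟨l, hlC⟩ * ⟨D.t 4, D.t_mem 4⟩⁻¹ from rfl, map_mul, map_inv, D.pi_t, toV_mul,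
        toV_inv, toV_el]
      rfl
    obtain ⟨hd, hne, -⟩ := w3_root _ hl
    rw [← e] at hd hne
    obtain ⟨k, hk⟩ := D.exists_pow hC hd
    obtain ⟨haC, hinv⟩ := D.mem_of_invert ha hal hC hk
    exfalso
    have h := congrArg dh (D.pi_invert haC hC hinv)
    have h2 : dh (D.π ⟨a, haC⟩) * dh (D.π ⟨a, haC⟩)⁻¹ = 1 := by rw [← map_mul, mul_inv_cancel, map_one]
    rw [map_mul, map_mul, mul_right_comm, h2, one_mul] at h
    refine hne ?_
    show dh (D.π ⟨_, hC⟩) * dh (D.π ⟨_, hC⟩) = 1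
    nth_rewrite 2 [h]
    rw [← map_mul, mul_inv_cancel, map_one]
  obtain ⟨x, hx6, hfus⟩ := f.fus_x
  have h := Dih.coset_equation hM o D.ord (fun z hz => D.all_conj hx6 hfus hz) ⟨3, by rw [ht4]; norm_num⟩
    (Subgroup.mem_zpowers _) hcy hidx hloc
  rw [Finset.sum_eq_zero, mul_zero] at h
  · exact (mul_eq_zero.1 h).resolve_left (mul_ne_zero (Nat.cast_ne_zero.2 Nat.card_pos.ne')
      (Nat.cast_ne_zero.2 Nat.card_pos.ne'))
  intro p _
  by_contra hne
  have hpC : (p : G) ∈ D.C := D.pre_le _ (o.ple p.2)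
  have hone : ∀ (x : G) (hxC : x ∈ D.C), Dih.invCount L x ≠ 0 → dh (D.π ⟨x, hxC⟩) * dh (D.π ⟨x, hxC⟩) = 1 := by
    intro x hxC h0
    obtain ⟨⟨l, hl⟩⟩ := (Nat.card_ne_zero.1 h0).1
    have hlC := D.pre_le _ l.2
    have h1 := congrArg dh (D.pi_invol hlC hxC hl)
    rwa [map_one, map_mul, map_mul, hdW _ ((D.mem_pre hlC).1 l.2), one_mul] at h1
  have hyC : (D.t 4)⁻¹ ∈ D.C := inv_mem (D.t_mem 4)
  have h1 := hone p hpC fun e => hne (by rw [e]; simp)
  have h2 := hone ((p : G) * (D.t 4)⁻¹) (mul_mem hpC hyC) fun e => hne (by rw [e]; simp)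
  rw [show (⟨(p : G) * (D.t 4)⁻¹, mul_mem hpC hyC⟩ : ↥D.C) = ⟨p, hpC⟩ * ⟨D.t 4, D.t_mem 4⟩⁻¹ from rfl,
    map_mul D.π, map_inv D.π, D.pi_t, map_mul, mul_mul_mul_comm, h1, one_mul] at h2
  refine seven_det ?_
  rw [show iv (rep 7) = toV (el (rsec 4))⁻¹ by rw [toV_inv, toV_el]; rfl]
  exact h2

set_option maxHeartbeats 800000 in
variable {D} in
/-- Over the split element of order four. -/
theorem Fusion.equation_d (f : D.Fusion) (hM : IsPModular 2 M) :
    ∃ T : ℕ, (Nat.card G : ℂ) * (Nat.card D.π.ker : ℂ) *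
      (∑ᶠ χ ∈ principalBlock M G, (χ : G → ℂ) D.u ^ 2 / (χ : G → ℂ) 1 * (χ : G → ℂ) (D.t 3)) =
      (480 * Nat.card D.π.ker : ℂ) ^ 2 * 4 * (T : ℂ) ^ 2 ∧ T ≤ Nat.card D.π.ker := by
  classical
  haveI : Fact (Nat.Prime 2) := ⟨Nat.prime_two⟩
  cases nonempty_fintype ↥D.O
  cases nonempty_fintype ↥D.p.range
  obtain ⟨hdS, hdty, hdin⟩ := d4_facts
  obtain ⟨g4, hg4⟩ := toV_surj (v := d4) (by decide)
  let q : ↥Semi := ⟨g4, by show pS (toV g4) = true; rw [hg4]; exact hdS⟩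
  have hq : toV (q : Q) = d4 := hg4
  obtain ⟨g0, hg0⟩ := toV_surj (v := ((0, 1, 1, 0) : V)) (by decide)
  let x₀ : ↥Semi := ⟨g0, by show pS (toV g0) = true; rw [hg0]; decide⟩
  have hqt : IsConj (D.p q) (D.t 3) := D.conj_p (by
    show ty (q : Q) = ty (el (rsec 3))
    rw [ty_el, ty, hq, hdty]; rfl)
  obtain ⟨k, hk⟩ := D.exists_pow (D.p_mem q) (by rw [D.pi_p, ty, hq, hdty]; rfl)
  have hle : Subgroup.centralizer ({D.p q} : Set G) ≤ D.C := fun g hg => by
    refine Subgroup.mem_centralizer_singleton_iff.2 ?_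
    rw [← hk]
    exact ((show Commute g (D.p q) from Subgroup.mem_centralizer_singleton_iff.1 hg).pow_right k).eq
  let H : Subgroup G := D.pre Semi
  have o : Dih.Odd2 D.O H D.p.range := by
    refine ⟨D.odd_O, ?_, (D.pre_le _).trans D.le_normalizer, ?_, ?_, ?_⟩
    · exact fun g hg => (D.mem_pre (D.O_le hg)).2 (by rw [(D.mem_O (D.O_le hg)).1 hg]; exact Semi.one_mem)
    · rintro _ ⟨r, rfl⟩
      exact (D.mem_pre (D.p_mem r)).2 (by rw [D.pi_p]; exact r.2)
    · rw [eq_bot_iff]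
      rintro g ⟨hg, r, rfl⟩
      have := (D.mem_O (D.p_mem r)).1 hg
      rw [D.pi_p] at this
      rw [Subgroup.mem_bot, show r = 1 from Subtype.ext this, map_one]
    · rw [D.card_pre, D.card_O, card_Semi, D.card_range, mul_comm]
  have hpiC : ∀ g (hg : g ∈ Subgroup.centralizer ({D.p q} : Set G)),
      mv (toV (D.π ⟨g, hle hg⟩)) d4 = mv d4 (toV (D.π ⟨g, hle hg⟩)) := by
    intro g hg
    rw [← hq, ← D.pi_p q, ← toV_mul, ← toV_mul, ← map_mul, ← map_mul]
    exact congrArg toV (congrArg D.π (Subtype.ext (Subgroup.mem_centralizer_singleton_iff.1 hg)))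
  have hcy : Subgroup.centralizer ({D.p q} : Set G) ≤ H := fun g hg =>
    (D.mem_pre (hle hg)).2 (d4_comm _ (mem_units _) (hpiC g hg)).1
  have hidx : ∃ j : ℕ, (D.O.subgroupOf (Subgroup.centralizer ({D.p q} : Set G))).index = 2 ^ j := by
    let φ := D.π.comp (Subgroup.inclusion hle)
    have hker : D.O.subgroupOf (Subgroup.centralizer ({D.p q} : Set G)) = φ.ker := by
      ext g; exact D.mem_O (hle g.2)
    have hP : IsPGroup 2 φ.range := by
      rintro ⟨_, g, rfl⟩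
      refine ⟨2, Subtype.ext ?_⟩
      show φ g ^ 4 = 1
      refine toV_injective ?_
      rw [show φ g ^ 4 = φ g * φ g * (φ g * φ g) by rw [pow_succ, pow_succ, pow_two]; group, toV_mul, toV_mul,
        toV_one]
      exact (d4_comm _ (mem_units _) (hpiC g.1 g.2)).2 (hpiC g.1 g.2)
    obtain ⟨n, hn⟩ := IsPGroup.iff_card.1 hP
    exact ⟨n, by rw [hker, Subgroup.index_ker, hn]⟩
  have hloc : ∀ a : G, ∀ l : ↥D.O, orderOf a = 2 → orderOf (a * ((l : G) * (D.p q)⁻¹)) = 2 → a ∈ H := by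
    intro a l ha hal
    have hwC : (l : G) * (D.p q)⁻¹ ∈ D.C := mul_mem (D.O_le l.2) (inv_mem (D.p_mem q))
    have hπw : toV (D.π ⟨_, hwC⟩) = iv d4 := by
      rw [show (⟨_, hwC⟩ : ↥D.C) = ⟨(l : G), D.O_le l.2⟩ * ⟨D.p q, D.p_mem q⟩⁻¹ from rfl, map_mul, map_inv,
        (D.mem_O (D.O_le l.2)).1 l.2, one_mul, D.pi_p, toV_inv, hq]
    obtain ⟨j, hj⟩ := D.exists_pow hwC (by rw [ty, hπw]; exact hdin)
    obtain ⟨haC, hinv⟩ := D.mem_of_invert ha hal hwC hj
    refine (D.mem_pre haC).2 (d4_invert _ (mem_units _) ?_)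
    rw [← hπw, ← toV_inv, ← toV_mul, ← toV_mul, D.pi_invert haC hwC hinv, toV_inv, hπw]
    decide
  obtain ⟨x, hx6, hfus⟩ := f.fus_x
  have h := Dih.coset_equation hM o D.ord (fun z hz => D.all_conj hx6 hfus hz) (D.orderOf_p q) ⟨q, rfl⟩ hcy
    hidx hloc
  refine ⟨Dih.invCount D.O (D.p x₀), ?_, ?_⟩
  swap
  · rw [Dih.invCount, ← D.card_O]
    exact Finite.card_subtype_le _
  rw [D.card_O, D.card_C] at h
  rw [show (∑ᶠ χ ∈ principalBlock M G, (χ : G → ℂ) D.u ^ 2 / (χ : G → ℂ) 1 * (χ : G → ℂ) (D.t 3)) =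
    ∑ᶠ χ ∈ principalBlock M G, (χ : G → ℂ) D.u ^ 2 / (χ : G → ℂ) 1 * (χ : G → ℂ) (D.p q) from
    finsum_congr fun χ => finsum_congr fun _ => by rw [IsClass.eq_of_isConj (irr_classFun χ) hqt], h]
  push_cast
  rw [mul_assoc]
  congr 1
  rw [← Equiv.sum_comp (MonoidHom.ofInjective D.p_inj).toEquiv]
  set T := Dih.invCount D.O (D.p x₀)
  have hzero : ∀ r : ↥Semi, ¬ (tyv (toV (r : Q)) = 2 ∨ tyv (toV (r : Q)) = 6) → Dih.invCount D.O (D.p r) = 0 := by
    intro r hne
    rw [Dih.invCount, Nat.card_eq_zero]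
    left
    refine ⟨fun ⟨l, hl⟩ => ?_⟩
    have h2 := D.pi_invol (D.O_le l.2) (D.p_mem r) hl
    rw [(D.mem_O (D.O_le l.2)).1 l.2, one_mul, D.pi_p] at h2
    by_cases hr : r = 1
    · subst hr
      rw [map_one, mul_one] at hl
      exact D.odd_O (hl ▸ (D.O.orderOf_dvd_natCard l.2))
    · exact hne (invol_table _ (mem_sq r) (by rw [← toV_mul, h2, toV_one])
        fun e => hr (Subtype.ext (toV_injective (e.trans toV_one.symm))))
  have hanti : ∀ r : ↥Semi, (∃ b : ZMod 5, toV (r : Q) = (0, b, b * b * b, 0)) →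
      Dih.invCount D.O (D.p r) = T := by
    intro r hr
    obtain ⟨z, hz, hzc⟩ := anti_conj _ (mem_sq r) hr
    obtain ⟨hzu, hzS⟩ := Finset.mem_filter.1 hz
    obtain ⟨z, rfl⟩ := toV_surj (Finset.mem_filter.1 hzu).2
    have e : r = ⟨z, hzS⟩ * x₀ * ⟨z, hzS⟩⁻¹ := Subtype.ext (toV_injective (by
      rw [show ((⟨z, hzS⟩ * x₀ * ⟨z, hzS⟩⁻¹ : ↥Semi) : Q) = z * x₀ * z⁻¹ from rfl, toV_mul, toV_mul, toV_inv,
        show toV (x₀ : Q) = ((0, 1, 1, 0) : V) from hg0, hzc]))
    rw [e, map_mul, map_mul, map_inv]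
    exact Dih.invCount_conj D.O (D.le_normalizer (D.p_mem _)) _
  have hterm : ∀ r : ↥Semi, (Dih.invCount D.O (D.p r) : ℂ) * (Dih.invCount D.O (D.p r * (D.p q)⁻¹) : ℂ) =
      if (tyv (toV (r : Q)) = 2 ∨ tyv (toV (r : Q)) = 6) ∧
        (tyv (mv (toV (r : Q)) (iv d4)) = 2 ∨ tyv (mv (toV (r : Q)) (iv d4)) = 6) then (T : ℂ) ^ 2 else 0 := by
    intro r
    have hmv : toV ((r * q⁻¹ : ↥Semi) : Q) = mv (toV (r : Q)) (iv d4) := by
      rw [show ((r * q⁻¹ : ↥Semi) : Q) = (r : Q) * (q : Q)⁻¹ from rfl, toV_mul, toV_inv, hq]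
    rw [← map_inv, ← map_mul]
    split_ifs with hc
    · obtain ⟨h1, h2⟩ := d4_pair _ (mem_sq r) hc
      rw [hanti r h1, hanti (r * q⁻¹) (by rw [hmv]; exact h2), pow_two]
    · rcases not_and_or.1 hc with hx | hx
      · rw [hzero r hx]; simp
      · rw [hzero (r * q⁻¹) (by rw [hmv]; exact hx)]; simp
  refine Eq.trans (Finset.sum_congr rfl fun r _ => hterm r) ?_
  rw [← Finset.sum_filter, Finset.sum_const, nsmul_eq_mul]
  congr 1
  refine Eq.trans ?_ (Eq.trans (congrArg (Nat.cast : ℕ → ℂ) d4_count) (by norm_num))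
  congr 1
  refine Finset.card_bij (fun r _ => toV (r : Q)) (fun r hr => ?_) (fun a _ b _ e => Subtype.ext (toV_injective e))
    (fun v hv => ?_)
  · exact Finset.mem_filter.2 ⟨mem_sq r, (Finset.mem_filter.1 hr).2⟩
  · obtain ⟨hvs, hv2⟩ := Finset.mem_filter.1 hv
    obtain ⟨hvu, hvS⟩ := Finset.mem_filter.1 hvs
    obtain ⟨g, rfl⟩ := toV_surj (Finset.mem_filter.1 hvu).2
    exact ⟨⟨g, hvS⟩, Finset.mem_filter.2 ⟨Finset.mem_univ _, hv2⟩, rfl⟩

end Data

end Cfsg.Agent.Invol.Wreath5Core
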