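import Cfsg.Agent.Lib.Invol.Wreath5Core.Setup
import Cfsg.Agent.Lib.Char.Quotient

/-!
# An involution centraliser with image `GL(2,5)` modulo a subgroup of odd order: the inflated table characters

The nine generalised characters of `GL(2,5)` supported on the roots of the central involution, inflated to the
centraliser, induce isometrically.
-/

set_option autoImplicit false
set_option maxRecDepth 100000
set_option linter.style.haveILetI false
set_option linter.unusedSectionVars false

namespace Cfsg.Agent.Invol.Wreath5Core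

open scoped ComplexConjugate
open Cfsg GL25 Cfsg.Agent.Char Cfsg.Agent.Block

universe u

variable {G : Type u} [Group G]

namespace Data

variable (D : Data G) [Fintype G] [Fintype ↥D.C]

/-- The average over the cosets of the kernel. -/
noncomputable def avg (f : G → ℂ) (q : Q) : ℂ :=
  (Nat.card D.π.ker : ℂ)⁻¹ * ∑ g : ↥D.C, if D.π g = q then f g else 0

theorem ker_ne_zero : (Nat.card D.π.ker : ℂ) ≠ 0 := Nat.cast_ne_zero.2 Nat.card_pos.ne'

theorem sum_avg (F : Q → ℂ) (f : G → ℂ) :
    ∑ g : ↥D.C, F (D.π g) * f g = (Nat.card D.π.ker : ℂ) * ∑ q : Q, F q * D.avg f q := by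
  classical
  simp only [avg, Finset.mul_sum]
  rw [Finset.sum_comm]
  refine Finset.sum_congr rfl fun g _ => ?_
  rw [Finset.sum_eq_single (D.π g) (fun q _ hq => by rw [if_neg (Ne.symm hq)]; ring)
    (fun h => absurd (Finset.mem_univ _) h), if_pos rfl]
  have := D.ker_ne_zero
  field_simp

theorem avg_conj (f : G → ℂ) (q : Q) : D.avg (fun g => conj (f g)) q = conj (D.avg f q) := by
  classical
  simp only [avg, map_mul, map_inv₀, map_natCast, map_sum, apply_ite (starRingEnd ℂ), map_zero]

theorem inner_avg (F : Q → ℂ) (f : G → ℂ) :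
    classInner (fun g : ↥D.C => F (D.π g)) (fun g => f g) = classInner F (D.avg f) := by
  have hk := D.ker_ne_zero
  simp only [classInner]
  rw [D.sum_avg F (fun g => conj (f g)), D.card_C, card_Q]
  simp only [avg_conj]
  push_cast
  field_simp

theorem avg_classFun {f : G → ℂ} (hf : IsClassFunction G f) : IsClassFunction Q (D.avg f) := by
  classical
  intro a b
  obtain ⟨c, rfl⟩ := D.surj b
  simp only [avg]
  congr 1
  refine (Fintype.sum_equiv (MulAut.conj c).toEquiv _ _ fun g => ?_).symm
  simp only [MulEquiv.toEquiv_eq_coe, MulEquiv.coe_toEquiv, MulAut.conj_apply, map_mul, map_inv, Subgroup.coe_mul,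
    Subgroup.coe_inv]
  rw [hf]
  simp only [mul_left_inj, mul_right_inj]

/-- The averages of a character form a character. -/
theorem avg_isCharacter {f : G → ℂ} (hf : IsCharacter G f) : IsCharacter Q (D.avg f) := by
  classical
  rw [classFunction_expansion (D.avg_classFun (IsChar.classFun hf))]
  refine IsChar.sum fun η _ => ?_
  obtain ⟨n, hn⟩ := IsChar.classInner_nat
    (IsChar.comp D.π (irr_isChar η) : IsCharacter _ fun g => (η : Q → ℂ) (D.π g))
    (IsChar.res hf D.C)
  rw [D.inner_avg] at hn
  have : classInner (D.avg f) (η : Q → ℂ) = n := by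
    rw [← classInner_conj_symm, hn, map_natCast]
  rw [this]
  exact IsChar.nsmul (irr_isChar η) n

theorem avg_one (q : Q) : D.avg (fun _ : G => 1) q = 1 := by
  classical
  have := sum_comp_surjective D.π D.surj (fun r => if r = q then (1 : ℂ) else 0)
  simp only [Finset.sum_ite_eq', Finset.mem_univ, if_true, mul_one] at this
  rw [avg, this, inv_mul_cancel₀ D.ker_ne_zero]

theorem avg_el {f : G → ℂ} (hf : IsClassFunction G f) (q : Q) : D.avg f q = D.avg f (el (ty q)) :=
  classFun_ty (D.avg_classFun hf) q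

/-- The induced functions. -/
noncomputable def psiInd (i : Fin 9) : G → ℂ := indFun D.C fun g => Phi i (D.π g)

theorem psiInd_classFun (i : Fin 9) : IsClassFunction G (D.psiInd i) := indFun_classFun _ _

theorem psiInd_inner (i : Fin 9) {f : G → ℂ} (hf : IsClassFunction G f) :
    classInner (D.psiInd i) f = classInner (Phi i) (D.avg f) := by
  rw [psiInd, classInner_indFun _ _ hf, D.inner_avg]

theorem psiInd_one (i : Fin 9) : D.psiInd i 1 = 0 := by
  rw [psiInd, indFun_one_eq, map_one, show Phi i 1 = toC (gtab i (ty 1)) from rfl]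
  have h : ∀ i, gtab i (tyv ov) = 0 := by decide +kernel
  rw [ty, toV_one, h i, toC_zero, mul_zero]

theorem phi_ne_zero {i : Fin 9} {q : Q} (h : Phi i q ≠ 0) : din (ty q) = true :=
  gtab_supp i _ fun e => h (by rw [Phi, e, toC_zero])

theorem psiInd_apply (i : Fin 9) {g : ↥D.C} (hg : din (ty (D.π g)) = true) : D.psiInd i g = Phi i (D.π g) := by
  classical
  have hterm : ∀ x : G, extendByZero D.C (fun r => Phi i (D.π r)) (x⁻¹ * (g : G) * x) =
      if x ∈ D.C then Phi i (D.π g) else 0 := by
    intro x
    split_ifs with hx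
    · rw [extendByZero_of_mem _ (show x⁻¹ * (g : G) * x ∈ D.C from mul_mem (mul_mem (inv_mem hx) g.2) hx),
        show (⟨x⁻¹ * (g : G) * x, mul_mem (mul_mem (inv_mem hx) g.2) hx⟩ : ↥D.C) = ⟨x, hx⟩⁻¹ * g * ⟨x, hx⟩ from rfl,
        map_mul, map_mul, map_inv]
      show toC (gtab i (ty _)) = toC (gtab i (ty _))
      rw [ty_conj]
    · by_cases hm : x⁻¹ * (g : G) * x ∈ D.C
      · rw [extendByZero_of_mem _ hm]
        by_contra hne
        exact hx (D.root_conj g.2 hg hm (phi_ne_zero hne))
      · exact extendByZero_not_mem _ hm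
  simp only [psiInd, indFun, hterm]
  rw [← Finset.sum_filter, Finset.sum_const, nsmul_eq_mul, ← Nat.card_eq_finsetCard,
    show Nat.card ↥(Finset.univ.filter fun x => x ∈ D.C) = Nat.card ↥D.C from
      Nat.card_congr (Equiv.subtypeEquivRight fun x => by simp),
    inv_mul_cancel_left₀ (Nat.cast_ne_zero.2 Nat.card_pos.ne')]

theorem psiInd_gram (i j : Fin 9) : classInner (D.psiInd i) (D.psiInd j) = (gram i j : ℂ) := by
  rw [D.psiInd_inner i (D.psiInd_classFun j), ← D.inner_avg, ← gram_spec i j]
  have h : classInner (fun g : ↥D.C => Phi i (D.π g)) (fun g => D.psiInd j g) =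
      classInner (fun g : ↥D.C => Phi i (D.π g)) (fun g => Phi j (D.π g)) := by
    simp only [classInner]
    congr 1
    refine Finset.sum_congr rfl fun g _ => ?_
    by_cases hz : Phi i (D.π g) = 0
    · simp [hz]
    · rw [D.psiInd_apply j (phi_ne_zero hz)]
  rw [h]
  simp only [classInner]
  rw [sum_comp_surjective D.π D.surj (fun q => Phi i q * conj (Phi j q)), D.card_C, card_Q]
  have := D.ker_ne_zero
  push_cast
  field_simp

theorem exists_coeff (χ : IrrCharacter G) (i : Fin 9) :
    ∃ n : ℤ, classInner (D.psiInd i) (χ : G → ℂ) = (n : ℂ) := by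
  rw [D.psiInd_inner i (IsIrr.classFun χ.2)]
  exact intInner_Phi i _ (D.avg_isCharacter (irr_isChar χ))

/-- The coefficients. -/
noncomputable def co (i : Fin 9) (χ : IrrCharacter G) : ℤ := (D.exists_coeff χ i).choose

theorem co_spec (i : Fin 9) (χ : IrrCharacter G) :
    classInner (D.psiInd i) (χ : G → ℂ) = (D.co i χ : ℂ) := (D.exists_coeff χ i).choose_spec

theorem expansion (i : Fin 9) : D.psiInd i = ∑ χ : IrrCharacter G, (D.co i χ : ℂ) • (χ : G → ℂ) :=
  (classFunction_expansion (D.psiInd_classFun i)).trans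
    (Finset.sum_congr rfl fun χ _ => by rw [D.co_spec i χ])

theorem co_trivial (i : Fin 9) : D.co i (trivialIrr G) = ![0, 0, 0, 0, 0, 0, 1, 0, 0] i := by
  have h1 := D.co_spec i (trivialIrr G)
  rw [D.psiInd_inner i (IsIrr.classFun (trivialIrr G).2)] at h1
  rw [show D.avg ((trivialIrr G : IrrCharacter G) : G → ℂ) = fun _ => 1 from funext D.avg_one,
    trivial_spec i] at h1
  exact_mod_cast h1.symm

theorem co_dot (k l : Fin 9) : ∑ χ : IrrCharacter G, D.co k χ * D.co l χ = gram k l := by
  have h1 := D.psiInd_gram k l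
  rw [D.expansion k, D.expansion l, classInner_sum_sum] at h1
  simp only [map_intCast] at h1
  exact_mod_cast h1

theorem co_deg (k : Fin 9) : ∑ χ : IrrCharacter G, D.co k χ * (charDegree (χ : G → ℂ) : ℤ) = 0 := by
  have h1 := D.psiInd_one k
  rw [D.expansion k, Finset.sum_apply] at h1
  simp only [Pi.smul_apply, smul_eq_mul, charDeg_spec'] at h1
  exact_mod_cast h1

/-- The image of a vector of weights. -/
def img (l : Fin 9 → ℤ × ℤ) (j : Fin 24) : ℤ × ℤ :=
  gmul ((size j : ℤ), 0) (∑ i, gmul (l i) (gconj (gtab i j)))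

/-- A weighted sum of coefficients as a sum of averages. -/
theorem weights (χ : IrrCharacter G) (l : Fin 9 → ℤ × ℤ) :
    ∑ i, toC (l i) * (D.co i χ : ℂ) =
      (480 : ℂ)⁻¹ * ∑ j, toC (img l j) * D.avg χ (el j) := by
  have hm : ∀ i, (480 : ℂ)⁻¹ * ∑ j : Fin 24, (size j : ℂ) * (conj (toC (gtab i j)) * D.avg χ (el j)) =
      (D.co i χ : ℂ) := by
    intro i
    have h1 := D.co_spec i χ
    rw [D.psiInd_inner i (IsIrr.classFun χ.2)] at h1
    have hξ : D.avg (χ : G → ℂ) = fun g => (fun j => D.avg χ (el j)) (ty g) := funext fun g =>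
      classFun_ty (D.avg_classFun (IsIrr.classFun χ.2)) g
    rw [hξ, show Phi i = fun g => (fun j => toC (gtab i j)) (ty g) from rfl,
      classInner_ty (fun j => toC (gtab i j)) (fun j => D.avg χ (el j))] at h1
    have h2 := congrArg conj h1
    simp only [map_mul, map_sum, map_inv₀, map_natCast, map_ofNat, Complex.conj_conj, map_intCast] at h2
    rw [← h2]
  simp only [← hm, Finset.mul_sum]
  rw [Finset.sum_comm]
  refine Finset.sum_congr rfl fun j _ => ?_
  rw [img, toC_gmul, toC_sum, Finset.mul_sum, Finset.sum_mul, Finset.mul_sum]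
  refine Finset.sum_congr rfl fun i _ => ?_
  rw [toC_gmul, toC_gconj]
  simp only [show toC ((size j : ℤ), 0) = (size j : ℂ) by simp [toC]]
  ring

end Data

end Cfsg.Agent.Invol.Wreath5Core
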