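import Cfsg.Agent.Lib.Invol.Wreath5Core.Degrees
import Cfsg.Agent.Lib.Block.ElemEight.Values

/-!
# An involution centraliser with image `GL(2,5)`: the kernel is trivial and the order is 372000

A character of the principal block of degree 31 is less than 32, so the kernel lies in its kernel; then the second
coset equation gives the order.
-/

set_option autoImplicit false
set_option maxRecDepth 100000
set_option linter.style.haveILetI false
set_option linter.unusedSectionVars false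

namespace Cfsg.Agent.Invol.Wreath5Core

open scoped ComplexConjugate
open Cfsg GL25 Cfsg.Agent.Char Cfsg.Agent.Block

universe u

/-- No element of odd order but the identity commutes with a non-central involution. -/
theorem six_cent : ∀ v ∈ units, p15 v = ov → mv v (rep 6) = mv (rep 6) v → v = ov := by decide +kernel

theorem six_invol : ∀ w ∈ units, mv w w = ov → w ≠ ov → w ≠ rep 2 → tyv w = 6 := by decide +kernel

theorem eq_one_of_cent {a b : Q} (ha : ty a = 6) (hb : b ^ 15 = 1) (hab : b * a = a * b) : b = 1 := by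
  obtain ⟨x, hx⟩ := isConj_el a
  rw [ha] at hx
  have h1 : toV (x * b * x⁻¹) = ov := by
    refine six_cent _ (mem_units _) ?_ ?_
    · rw [← toV_pow_fifteen, conj_pow, hb, mul_one, mul_inv_cancel, toV_one]
    · rw [← toV_el 6, ← toV_mul, ← toV_mul, show el 6 = x * a * x⁻¹ by rw [← hx]; group]
      refine congrArg toV ?_
      calc x * b * x⁻¹ * (x * a * x⁻¹) = x * (b * a) * x⁻¹ := by group
        _ = x * (a * b) * x⁻¹ := by rw [hab]
        _ = x * a * x⁻¹ * (x * b * x⁻¹) := by group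
  exact conj_eq_one_iff.1 (toV_injective (h1.trans toV_one.symm))

variable {G : Type u} [Group G]

namespace Data

variable {D : Data G} [Finite G] [Fintype G] [Fintype ↥D.C] {M : Ideal AlgInt}

/-- A character of the principal block is constant over an element fused to a root from outside. -/
theorem const_fused (hM : IsPModular 2 M) {χ : IrrCharacter G} (hχ : χ ∈ principalBlock M G) {q : ↥Semi}
    {s : Fin 6} (hty : ty (q : Q) ≠ rsec s) {h : G} (hh : h * D.t s * h⁻¹ = D.p q) {g : ↥D.C}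
    (hg : D.π g = q) : (χ : G → ℂ) g = (χ : G → ℂ) (D.p q) := by
  haveI : Fact (Nat.Prime 2) := ⟨Nat.prime_two⟩
  obtain ⟨k, hk⟩ := D.orderOf_p q
  have hpq : ∃ j : ℕ, orderOf (⟨D.p q, D.p_mem q⟩ : ↥D.C) = 2 ^ j := ⟨k, by rw [← Subgroup.orderOf_coe]; exact hk⟩
  have hq2 : ∃ j : ℕ, orderOf (q : Q) = 2 ^ j := by
    obtain ⟨j, -, hj⟩ := (Nat.dvd_prime_pow Nat.prime_two).1 (hk ▸ (D.pi_p q ▸ (orderOf_map_dvd D.π _).trans
      (dvd_of_eq (Subgroup.orderOf_coe ⟨D.p q, D.p_mem q⟩).symm) : orderOf (q : Q) ∣ orderOf (D.p q)))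
    exact ⟨j, hj⟩
  obtain ⟨z, v, hzv, hc, hz, hv, -, hvg⟩ := exists_pPart_zpowers (p := 2) g
  have hπv : D.π v = 1 := by
    obtain ⟨n, rfl⟩ := Subgroup.mem_zpowers_iff.1 hvg
    obtain ⟨j, hj⟩ := hq2
    have h1 : orderOf (D.π (g ^ n)) ∣ 2 ^ j := by
      refine orderOf_dvd_of_pow_eq_one ?_
      rw [map_zpow, hg, ← zpow_natCast, ← zpow_mul, mul_comm, zpow_mul, zpow_natCast, ← hj, pow_orderOf_eq_one,
        one_zpow]
    obtain ⟨i, -, hi⟩ := (Nat.dvd_prime_pow Nat.prime_two).1 h1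
    rcases i with _ | i
    · exact orderOf_eq_one_iff.1 (hi.trans (pow_zero 2))
    · exact absurd ((hi ▸ dvd_pow_self 2 (by omega) : 2 ∣ orderOf (D.π (g ^ n))).trans (orderOf_map_dvd _ _)) hv
  have hπz : D.π z = (q : Q) := by rw [← hg, ← hzv, map_mul, hπv, mul_one]
  obtain ⟨l, hl, e⟩ := conj_of_same_image D.π D.odd hz hpq (by rw [hπz, D.pi_p])
  obtain ⟨v1, hv1⟩ : ∃ v1 : ↥D.C, v1 = l * v * l⁻¹ := ⟨_, rfl⟩
  have hπv1 : D.π v1 = 1 := by rw [hv1, map_mul, map_mul, hπv, mul_one, map_inv, mul_inv_cancel]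
  have hv1o : ¬ 2 ∣ orderOf (v1 : G) := by
    rw [Subgroup.orderOf_coe, hv1, ← MulAut.conj_apply, MulEquiv.orderOf_eq]; exact hv
  have hg1 : (χ : G → ℂ) g = (χ : G → ℂ) (D.p q * (v1 : G)) := by
    have e1 : l * g * l⁻¹ = ⟨D.p q, D.p_mem q⟩ * v1 := by rw [hv1, ← e, ← hzv]; group
    rw [← show ((l * g * l⁻¹ : ↥D.C) : G) = D.p q * (v1 : G) from congrArg Subtype.val e1,
      show ((l * g * l⁻¹ : ↥D.C) : G) = (l : G) * g * (l : G)⁻¹ from rfl, irr_classFun χ (g : G) (l : G)]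
  have hvp : (v1 : G) * D.p q = D.p q * (v1 : G) := by
    have h3 := congrArg (fun x : ↥D.C => (x : G)) (hc.map (MulAut.conj l).toMonoidHom).eq
    simp only [MulEquiv.coe_toMonoidHom, MulAut.conj_apply, e, ← hv1] at h3
    exact h3.symm
  have hvH : h⁻¹ * (v1 : G) * h ∈ D.H s := by
    refine Subgroup.mem_centralizer_singleton_iff.2 ?_
    calc h⁻¹ * (v1 : G) * h * D.t s = h⁻¹ * ((v1 : G) * (h * D.t s * h⁻¹)) * h := by group
      _ = h⁻¹ * (h * D.t s * h⁻¹ * (v1 : G)) * h := by rw [hh, hvp]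
      _ = D.t s * (h⁻¹ * (v1 : G) * h) := by group
  have hh' : ¬ h ∈ D.C := by
    intro hC
    refine hty ?_
    have h1 := congrArg (fun x : ↥D.C => ty (D.π x)) (show (⟨h, hC⟩ : ↥D.C) * ⟨D.t s, D.t_mem s⟩ * ⟨h, hC⟩⁻¹ =
      ⟨D.p q, D.p_mem q⟩ from Subtype.ext hh)
    simp only [map_mul, map_inv, D.pi_p, D.pi_t] at h1
    rw [← h1]
    conv_lhs => rw [show D.π ⟨h, hC⟩ * el (rsec s) * (D.π ⟨h, hC⟩)⁻¹ =
      (D.π ⟨h, hC⟩)⁻¹⁻¹ * el (rsec s) * (D.π ⟨h, hC⟩)⁻¹ by rw [inv_inv]]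
    rw [ty_conj, ty_el]
  set w : G := h⁻¹ * D.u * h with hw
  have hwH : w ∈ D.H s := by
    refine Subgroup.mem_centralizer_singleton_iff.2 ?_
    calc w * D.t s = h⁻¹ * (D.u * (h * D.t s * h⁻¹)) * h := by rw [hw]; group
      _ = h⁻¹ * (h * D.t s * h⁻¹ * D.u) * h := by rw [hh, D.comm (D.p_mem q)]
      _ = _ := by rw [hw]; group
  have hwC : w ∈ D.C := D.H_le s hwH
  have hw2 : w * w = 1 := by
    rw [hw, show h⁻¹ * D.u * h * (h⁻¹ * D.u * h) = h⁻¹ * (D.u * D.u) * h by group, D.u_sq]; group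
  have hwo : orderOf w = 2 := by
    rw [hw, show h⁻¹ * D.u * h = MulAut.conj h⁻¹ D.u by simp, MulEquiv.orderOf_eq, D.ord]
  have hwty : ty (D.π ⟨w, hwC⟩) = 6 := by
    refine six_invol _ (mem_units _) ?_ ?_ ?_
    · rw [← toV_mul, ← map_mul, show (⟨w, hwC⟩ : ↥D.C) * ⟨w, hwC⟩ = 1 from Subtype.ext hw2, map_one, toV_one]
    · intro e1
      have := eq_one_of_ker D.π D.odd (t := (⟨w, hwC⟩ : ↥D.C)) ⟨1, by rw [← Subgroup.orderOf_coe]; exact hwo⟩
        (toV_injective (e1.trans toV_one.symm))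
      have := congrArg Subtype.val this
      simp only [OneMemClass.coe_one] at this
      rw [this, orderOf_one] at hwo
      omega
    · intro e1
      obtain ⟨l', -, e2⟩ := conj_of_same_image D.π D.odd (t := (⟨D.u, D.u_mem⟩ : ↥D.C)) (t' := ⟨w, hwC⟩)
        ⟨1, by rw [← Subgroup.orderOf_coe]; exact D.ord⟩ ⟨1, by rw [← Subgroup.orderOf_coe]; exact hwo⟩
        (by rw [D.map_u]; exact toV_injective ((toV_el 2).trans e1.symm))
      have e3 : (l' : G) * D.u * (l' : G)⁻¹ = w := congrArg Subtype.val e2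
      rw [D.comm l'.2, mul_inv_cancel_right] at e3
      refine hh' (Subgroup.mem_centralizer_singleton_iff.2 ?_)
      calc h * D.u = h * (h⁻¹ * D.u * h) := by rw [← hw, ← e3]
        _ = D.u * h := by group
  let v2 : ↥(D.H s) := ⟨_, hvH⟩
  have hv2o : ¬ 2 ∣ orderOf v2 := by
    rw [← Subgroup.orderOf_coe, show (v2 : G) = MulAut.conj h⁻¹ (v1 : G) by simp [v2], MulEquiv.orderOf_eq]
    exact hv1o
  have hπv2 : D.πs s v2 = 1 := by
    refine eq_one_of_cent hwty ((D.reg_iff s v2).1 hv2o) ?_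
    show D.π _ * D.π _ = D.π _ * D.π _
    rw [← map_mul, ← map_mul]
    refine congrArg D.π (Subtype.ext ?_)
    have hvu : (v1 : G) * D.u = D.u * (v1 : G) := D.comm v1.2
    show h⁻¹ * (v1 : G) * h * (h⁻¹ * D.u * h) = h⁻¹ * D.u * h * (h⁻¹ * (v1 : G) * h)
    calc _ = h⁻¹ * ((v1 : G) * D.u) * h := by group
      _ = h⁻¹ * (D.u * (v1 : G)) * h := by rw [hvu]
      _ = _ := by group
  have hsec := D.section_const hM s hχ (q := 1) (by rw [one_mul, mul_one]) (one_pow _) (w := 1) (map_one _)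
    (g := ⟨D.t s * (v2 : G), mul_mem (D.t_mem s) (D.H_le s v2.2)⟩) (by
      rw [show (⟨D.t s * (v2 : G), mul_mem (D.t_mem s) (D.H_le s v2.2)⟩ : ↥D.C) =
        ⟨D.t s, D.t_mem s⟩ * ⟨v2, D.H_le s v2.2⟩ from rfl, map_mul, D.pi_t,
        show D.π ⟨(v2 : G), D.H_le s v2.2⟩ = 1 from hπv2])
  rw [OneMemClass.coe_one, mul_one] at hsec
  rw [hg1, ← hh, irr_classFun χ (D.t s) h,
    show h * D.t s * h⁻¹ * (v1 : G) = h * (D.t s * (v2 : G)) * h⁻¹ by simp only [v2]; group,
    irr_classFun χ (D.t s * (v2 : G)) h]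
  exact hsec

/-- The averages of a character of the principal block off the identity of the Sylow subgroup. -/
theorem Fusion.avg_semi (f : D.Fusion) (hM : IsPModular 2 M) {χ : IrrCharacter G} (hχ : χ ∈ principalBlock M G)
    {q : ↥Semi} (hq : q ≠ 1) : D.avg χ q = (χ : G → ℂ) (D.p q) := by
  classical
  have hf := IsIrr.classFun χ.2
  have hconj := f.conj_root hq
  by_cases hty : ty (q : Q) = rsec (styp (ty (q : Q)))
  · rw [D.avg_el hf, hty, D.avg_root hM _ hχ, IsClass.eq_of_isConj hf hconj]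
  · obtain ⟨h, hh⟩ := isConj_iff.1 hconj.symm
    have h1 : ∀ g : ↥D.C, (if D.π g = (q : Q) then (χ : G → ℂ) g else 0) =
        (χ : G → ℂ) (D.p q) * (if D.π g = (q : Q) then (fun _ : G => (1 : ℂ)) g else 0) := by
      intro g
      split_ifs with hg
      · rw [const_fused hM hχ hty hh hg, mul_one]
      · rw [mul_zero]
    rw [avg, Finset.sum_congr rfl fun g _ => h1 g, ← Finset.mul_sum, ← mul_assoc,
      mul_comm (Nat.card D.π.ker : ℂ)⁻¹, mul_assoc]
    have h2 := D.avg_one (q : Q)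
    rw [avg] at h2
    rw [h2, mul_one]

/-- The sum over the kernel. -/
theorem sum_O [Fintype ↥D.O] (f : G → ℂ) : ∑ l : ↥D.O, f l = (Nat.card D.π.ker : ℂ) * D.avg f 1 := by
  classical
  rw [avg, mul_inv_cancel_left₀ D.ker_ne_zero, ← Finset.sum_filter]
  exact Finset.sum_bij (fun l _ => (⟨(l : G), D.O_le l.2⟩ : ↥D.C))
    (fun l _ => Finset.mem_filter.2 ⟨Finset.mem_univ _, (D.mem_O (D.O_le l.2)).1 l.2⟩)
    (fun a _ b _ h => Subtype.ext (congrArg (fun x : ↥D.C => (x : G)) h))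
    (fun g hg => ⟨⟨(g : G), (D.mem_O g.2).2 (Finset.mem_filter.1 hg).2⟩, Finset.mem_univ _, rfl⟩) (fun _ _ => rfl)

/-- Some nontrivial character has the kernel in its kernel. -/
theorem Fusion.exists_kernel (f : D.Fusion) (hM : IsPModular 2 M) :
    ∃ χ : IrrCharacter G, χ ≠ trivialIrr G ∧ ∀ l ∈ D.O, (χ : G → ℂ) l = (χ : G → ℂ) 1 := by
  classical
  cases nonempty_fintype ↥D.O
  obtain ⟨χ, hχ, hne, h31⟩ := f.exists_small hM
  refine ⟨χ, hne, ?_⟩
  set n := charDegree (χ : G → ℂ) with hn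
  have hχ1 : (χ : G → ℂ) 1 = (n : ℂ) := charDeg_spec' χ
  obtain ⟨k, hk⟩ := IsChar.one_eq_nat (D.avg_isCharacter (irr_isChar χ))
  obtain ⟨r, hr⟩ := IsChar.classInner_nat (IsChar.comp D.p (irr_isChar χ) : IsCharacter ↥Semi fun q => (χ : G → ℂ) (D.p q))
    (IsIrr.isCharacter isIrr_one)
  obtain ⟨r', hr'⟩ := IsChar.classInner_nat (IsChar.res (D.avg_isCharacter (irr_isChar χ)) Semi)
    (IsIrr.isCharacter (isIrr_one (G := ↥Semi)))
  have hdiff : (n : ℂ) - k = 32 * ((r : ℂ) - r') := by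
    rw [← hr, ← hr', classInner, classInner, card_Semi]
    simp only [map_one, mul_one]
    rw [← mul_sub, ← Finset.sum_sub_distrib, Finset.sum_eq_single (1 : ↥Semi)
      (fun q _ hq => by rw [f.avg_semi hM hχ hq, sub_self]) (fun h => absurd (Finset.mem_univ _) h),
      map_one, hχ1, show ((1 : ↥Semi) : Q) = 1 from rfl, hk]
    ring
  have hsum : ∑ l : ↥D.O, (χ : G → ℂ) l = (Nat.card D.π.ker : ℂ) * k := by rw [D.sum_O, hk]
  have hre : ∀ l : ↥D.O, ((χ : G → ℂ) l).re ≤ n := fun l => by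
    have h := IsChar.norm_le (irr_isChar χ) (l : G)
    rw [hχ1, Complex.norm_natCast] at h
    exact (Complex.re_le_norm _).trans h
  have hc : (0 : ℝ) < Nat.card D.π.ker := Nat.cast_pos.2 Nat.card_pos
  have h := congrArg Complex.re hsum
  rw [Complex.re_sum, Complex.mul_re, Complex.natCast_im, zero_mul, sub_zero, Complex.natCast_re,
    Complex.natCast_re] at h
  have hkn : k ≤ n := by
    have h2 := Finset.sum_le_sum (s := Finset.univ) fun l _ => hre l
    rw [h, Finset.sum_const, nsmul_eq_mul, Finset.card_univ, ← Nat.card_eq_fintype_card, D.card_O] at h2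
    exact_mod_cast le_of_mul_le_mul_left h2 hc
  have hkeq : k = n := by
    have h' : (n : ℤ) - k = 32 * ((r : ℤ) - r') := by exact_mod_cast hdiff
    omega
  have h2 : ∑ l : ↥D.O, ((n : ℝ) - ((χ : G → ℂ) l).re) = 0 := by
    rw [Finset.sum_sub_distrib, h, Finset.sum_const, nsmul_eq_mul, Finset.card_univ, ← Nat.card_eq_fintype_card,
      D.card_O, hkeq, sub_self]
  intro l hl
  have hz := (Finset.sum_eq_zero_iff_of_nonneg fun l _ => sub_nonneg.2 (hre l)).1 h2 ⟨l, hl⟩ (Finset.mem_univ _)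
  have hn' := IsChar.norm_le (irr_isChar χ) l
  rw [hχ1, Complex.norm_natCast] at hn'
  rw [hχ1, eq_ofReal_of_re_eq (sub_eq_zero.1 hz).symm hn', Complex.ofReal_natCast]

theorem Fusion.card_ker [IsSimpleGroup G] (f : D.Fusion) : Nat.card D.π.ker = 1 := by
  obtain ⟨M, hM⟩ := exists_isPModular 2 Nat.prime_two
  obtain ⟨χ, hne, hker⟩ := f.exists_kernel hM
  have hO : D.O = ⊥ := (Subgroup.eq_bot_iff_forall _).2 fun l hl =>
    by_contra fun h => hne (ElemEight.eq_trivial_of_ker χ h (hker l hl))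
  rw [← D.card_O, hO, Subgroup.card_bot]

end Data

variable {D : Data G}

/-- With the fusion, the centraliser is `GL(2,5)` and the order is 372000. -/
theorem Data.Fusion.card_eq [Finite G] [IsSimpleGroup G] (f : D.Fusion) :
    Nat.card D.π.ker = 1 ∧ Nat.card G = 372000 := by
  classical
  cases nonempty_fintype G
  cases nonempty_fintype ↥D.C
  have hk := f.card_ker
  obtain ⟨M, hM⟩ := exists_isPModular 2 Nat.prime_two
  obtain ⟨c⟩ := f.exists_chars hM
  obtain ⟨T, hT, hTk⟩ := f.equation_d hM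
  rw [f.sum_d hM c, hk] at hT
  rw [hk] at hTk
  refine ⟨hk, ?_⟩
  have hG : (0 : ℕ) < Nat.card G := Nat.card_pos
  interval_cases T
  · exfalso
    have : (Nat.card G : ℂ) ≠ 0 := Nat.cast_ne_zero.2 hG.ne'
    simp at hT
  · have h' : (Nat.card G : ℂ) = ((372000 : ℕ) : ℂ) := by
      push_cast at hT ⊢
      linear_combination (930 / 2304 : ℂ) * hT
    exact_mod_cast h'

end Cfsg.Agent.Invol.Wreath5Core
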