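import Cfsg.Agent.Lib.Invol.GL25.Eta
import Cfsg.Agent.Lib.Invol.Wreath5Core.Induced

/-!
# An involution centraliser with image `GL(2,5)`: tables for the six sections over roots
-/

set_option autoImplicit false
set_option maxRecDepth 100000

namespace Cfsg.Agent.Invol.Wreath5Core

open Cfsg GL25

/-- The classes of the roots: the three central ones, order four, and the two kinds of order eight. -/
def rsec : Fin 6 → Fin 24 := ![1, 2, 3, 4, 7, 5]

/-- The weights giving the value at a root inside the principal block. -/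
def wv : Fin 6 → Fin 9 → ℤ × ℤ :=
  ![![(0, -4), (5, 0), (-6, 0), (-5, 0), (6, 0), (-1, 0), (1, 0), (0, 6), (0, 6)],
    ![(-4, 0), (-5, 0), (6, 0), (-5, 0), (6, 0), (1, 0), (1, 0), (6, 0), (-6, 0)],
    ![(0, 4), (5, 0), (-6, 0), (-5, 0), (6, 0), (-1, 0), (1, 0), (0, -6), (0, -6)],
    ![(0, 0), (-1, 0), (2, 0), (-1, 0), (2, 0), (1, 0), (1, 0), (0, 0), (0, 0)],
    ![(0, 0), (0, 1), (0, 0), (-1, 0), (0, 0), (0, -1), (1, 0), (0, 0), (0, 0)],
    ![(0, 0), (0, -1), (0, 0), (-1, 0), (0, 0), (0, 1), (1, 0), (0, 0), (0, 0)]]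

/-- The weights giving the sums over the sections. -/
def tv : Fin 6 → Fin 9 → ℤ × ℤ :=
  ![![(0, 60), (-15, 0), (-30, 0), (15, 0), (30, 0), (-45, 0), (45, 0), (0, 30), (0, 30)],
    ![(60, 0), (15, 0), (30, 0), (15, 0), (30, 0), (45, 0), (45, 0), (30, 0), (-30, 0)],
    ![(0, -60), (-15, 0), (-30, 0), (15, 0), (30, 0), (-45, 0), (45, 0), (0, -30), (0, -30)],
    ![(0, 0), (-1, 0), (2, 0), (-1, 0), (2, 0), (1, 0), (1, 0), (0, 0), (0, 0)],
    ![(0, 0), (0, 3), (0, 0), (-3, 0), (0, 0), (0, -3), (3, 0), (0, 0), (0, 0)],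
    ![(0, 0), (0, -3), (0, 0), (-3, 0), (0, 0), (0, 3), (3, 0), (0, 0), (0, 0)]]

/-- The fifteenth power. -/
def p15 (v : V) : V := (fun w : V => Nat.rec ov (fun _ s => mv w s) 15) v

theorem toV_pow_fifteen (q : Q) : toV (q ^ 15) = p15 (toV q) := by
  have hpow : ∀ (n : ℕ), toV (q ^ n) = (fun w : V => Nat.rec ov (fun _ s => mv w s) n) (toV q) := by
    intro n
    induction n with
    | zero => rw [pow_zero, toV_one]; rfl
    | succ n ih => rw [pow_succ', toV_mul, ih]
  exact hpow 15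

theorem sec_mem : ∀ s, pS (rep (rsec s)) = true ∧ din (rsec s) = true := by decide +kernel

/-- The odd part of the centralizer of a root. -/
def regSet (s : Fin 6) : Finset V :=
  units.filter fun v => mv v (rep (rsec s)) = mv (rep (rsec s)) v ∧ p15 v = ov

/-- How often each class occurs in a section. -/
def secMult : Fin 6 → Fin 24 → ℕ :=
  fun s j => ![![(1, 1), (18, 20), (22, 24)], ![(2, 1), (8, 20), (16, 24)], ![(3, 1), (10, 24), (14, 20)],
      ![(4, 1), (0, 0), (0, 0)], ![(7, 1), (15, 1), (19, 1)], ![(5, 1), (9, 1), (21, 1)]] s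
    |> fun l => ∑ k, if ((l k : ℕ × ℕ)).1 = j.val then ((l k : ℕ × ℕ)).2 else 0

/-- The character of degree four summed over the classes of a central section. -/
def etaW : Fin 6 → Fin 24 → ℤ :=
  fun s j => ![![(1, 4), (18, 20), (22, -24)], ![(2, 4), (8, 20), (16, -24)], ![(3, 4), (10, -24), (14, 20)],
      ![(0, 0), (0, 0), (0, 0)], ![(0, 0), (0, 0), (0, 0)], ![(0, 0), (0, 0), (0, 0)]] s
    |> fun l => ∑ k, if ((l k : ℕ × ℤ)).1 = j.val then ((l k : ℕ × ℤ)).2 else 0

theorem secMult_spec : ∀ s j, ((regSet s).filter fun v => tyv (mv (rep (rsec s)) v) = j).card = secMult s j := by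
  decide +kernel

theorem etaW_spec : ∀ s : Fin 6, (s : ℕ) < 3 → ∀ j,
    (∑ v ∈ (regSet s).filter (fun v => tyv (mv (rep (rsec s)) v) = j), etaTab (tyv v)) = etaW s j := by
  decide +kernel

theorem central : ∀ s : Fin 6, (s : ℕ) < 3 → ∀ v ∈ units, mv v (rep (rsec s)) = mv (rep (rsec s)) v := by
  decide +kernel

/-- The centralizer of a root of order four or eight is commutative. -/
theorem cent_comm : ∀ s : Fin 6, ¬ (s : ℕ) < 3 →
    ∀ a ∈ units.filter (fun v => mv v (rep (rsec s)) = mv (rep (rsec s)) v),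
      ∀ b ∈ units.filter (fun v => mv v (rep (rsec s)) = mv (rep (rsec s)) v), mv a b = mv b a := by decide +kernel

theorem mult_total : ∀ s : Fin 6, ¬ (s : ℕ) < 3 → ∑ j, secMult s j = if (s : ℕ) = 3 then 1 else 3 := by
  decide +kernel

theorem tv_spec : ∀ s j, Data.img (tv s) j = (480 * (secMult s j : ℤ), 0) := by decide +kernel

theorem wv_spec : ∀ s j, Data.img (wv s) j =
    (if (s : ℕ) < 3 then (480 * (if j = rsec s then 1 else 0) - 32 * etaW s j, 0)
     else if (s : ℕ) = 3 then (480 * (secMult s j : ℤ), 0) else (160 * (secMult s j : ℤ), 0)) := by decide +kernel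

end Cfsg.Agent.Invol.Wreath5Core
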