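import Cfsg.Agent.Lib.Invol.Wreath5Core.SecTables
import Cfsg.Agent.Lib.Block.SectionRegular
import Cfsg.Agent.Lib.Block.AbelianThree

/-!
# An involution centraliser with image `GL(2,5)`: sections over the roots

Inside the principal block the averages are the values at the roots; outside, the sums over the sections vanish.
Both are linear in the coefficients on the nine induced characters.
-/

set_option autoImplicit false
set_option maxRecDepth 100000
set_option linter.style.haveILetI false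
set_option linter.unusedSectionVars false

namespace Cfsg.Agent.Invol.Wreath5Core

open scoped ComplexConjugate
open Cfsg GL25 Cfsg.Agent.Char Cfsg.Agent.Block

universe u

variable {G : Type u} [Group G]

/-- The root of a section. -/
noncomputable def secQ (s : Fin 6) : ↥Semi :=
  ⟨el (rsec s), by show pS (toV (el (rsec s))) = true; rw [toV_el]; exact (sec_mem s).1⟩

namespace Data

variable (D : Data G)

/-- The root in the group. -/
noncomputable def t (s : Fin 6) : G := D.p (secQ s)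

/-- Its centralizer. -/
noncomputable abbrev H (s : Fin 6) : Subgroup G := Subgroup.centralizer ({D.t s} : Set G)

theorem t_mem (s : Fin 6) : D.t s ∈ D.C := D.p_mem _

theorem pi_t (s : Fin 6) : D.π ⟨D.t s, D.t_mem s⟩ = el (rsec s) := D.pi_p _

theorem t_self (s : Fin 6) : D.t s ∈ D.H s := Subgroup.mem_centralizer_singleton_iff.2 rfl

variable [Finite G]

theorem t_two (s : Fin 6) : ∃ k : ℕ, orderOf (D.t s) = 2 ^ k := D.orderOf_p _

theorem H_le (s : Fin 6) : D.H s ≤ D.C :=
  D.cent_le (D.t_mem s) (by rw [D.pi_t, ty_el]; exact (sec_mem s).2)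

/-- The map of the centralizer of a root. -/
noncomputable def πs (s : Fin 6) : ↥(D.H s) →* Q := D.π.comp (Subgroup.inclusion (D.H_le s))

theorem πs_comm (s : Fin 6) (v : ↥(D.H s)) : D.πs s v * el (rsec s) = el (rsec s) * D.πs s v := by
  rw [← D.pi_t s]
  show D.π _ * D.π _ = D.π _ * D.π _
  rw [← map_mul, ← map_mul]
  exact congrArg D.π (Subtype.ext (Subgroup.mem_centralizer_singleton_iff.1 v.2))

theorem exists_over (s : Fin 6) {q : Q} (hq : q * el (rsec s) = el (rsec s) * q) :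
    ∃ v : ↥(D.H s), D.πs s v = q := by
  obtain ⟨k, hk⟩ := D.t_two s
  obtain ⟨g, hg, hgq⟩ := exists_lift D.π D.surj D.odd (t := ⟨D.t s, D.t_mem s⟩)
    ⟨k, by rw [← Subgroup.orderOf_coe]; exact hk⟩ (q := q) (by rw [D.pi_t]; exact hq)
  exact ⟨⟨g, Subgroup.mem_centralizer_singleton_iff.2 (congrArg Subtype.val hg)⟩, hgq⟩

theorem πs_ker (s : Fin 6) {v : ↥(D.H s)} (h : D.πs s v = 1) : (v : G) ∈ D.O :=
  (D.mem_O (D.H_le s v.2)).2 h

theorem odd_ker (s : Fin 6) : ¬ 2 ∣ Nat.card (D.πs s).ker := fun hd => D.odd_O (hd.trans (by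
  rw [← Nat.card_congr (Subgroup.equivMapOfInjective _ _ (Subgroup.subtype_injective _)).symm.toEquiv]
  refine Subgroup.card_dvd_of_le ?_
  rintro _ ⟨v, hv, rfl⟩
  exact D.πs_ker s hv))

theorem reg_iff (s : Fin 6) (v : ↥(D.H s)) : ¬ 2 ∣ orderOf v ↔ D.πs s v ^ 15 = 1 := by
  constructor
  · intro h
    have h1 : orderOf (D.πs s v) ∣ 32 * 15 := by
      have := orderOf_dvd_natCard (D.πs s v)
      rwa [card_Q] at this
    have h2 : Nat.Coprime (orderOf (D.πs s v)) 32 := by
      rw [show (32 : ℕ) = 2 ^ 5 by norm_num]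
      exact Nat.Coprime.pow_right 5 ((Nat.prime_two.coprime_iff_not_dvd.2
        fun hd => h (hd.trans (orderOf_map_dvd _ v))).symm)
    exact orderOf_dvd_iff_pow_eq_one.1 (h2.dvd_of_dvd_mul_left h1)
  · intro h hd
    have h1 : v ^ 15 ∈ (D.πs s).ker := by rw [MonoidHom.mem_ker, map_pow, h]
    have h2 : orderOf v ∣ 15 * Nat.card (D.πs s).ker := by
      refine orderOf_dvd_of_pow_eq_one ?_
      rw [pow_mul]
      exact orderOf_dvd_iff_pow_eq_one.1 ((D.πs s).ker.orderOf_dvd_natCard h1)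
    rcases (Nat.Prime.dvd_mul Nat.prime_two).1 (hd.trans h2) with h3 | h3
    · omega
    · exact D.odd_ker s h3

/-- An element over a section is conjugate by the kernel into the section at the root. -/
theorem exists_split (s : Fin 6) {g : ↥D.C} {q : Q} (hq : q * el (rsec s) = el (rsec s) * q) (hq15 : q ^ 15 = 1)
    (hg : D.π g = el (rsec s) * q) :
    ∃ l ∈ D.π.ker, ∃ v : ↥(D.H s), D.πs s v = q ∧
      ((l * g * l⁻¹ : ↥D.C) : G) = D.t s * (v : G) := by
  haveI : Fact (Nat.Prime 2) := ⟨Nat.prime_two⟩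
  obtain ⟨z, v, hzv, hc, hz, hv, -, -⟩ := exists_pPart_zpowers (p := 2) g
  have hodd : ¬ 2 ∣ orderOf q := fun hd => absurd (hd.trans (orderOf_dvd_of_pow_eq_one hq15)) (by decide)
  have htwo : ∀ {x : Q} {w : ↥D.C}, (∃ k : ℕ, orderOf w = 2 ^ k) → D.π w = x → ∃ k : ℕ, orderOf x = 2 ^ k := by
    intro x w ⟨k, hk⟩ e
    obtain ⟨j, -, hj⟩ := (Nat.dvd_prime_pow Nat.prime_two).1 (hk ▸ e ▸ orderOf_map_dvd D.π w)
    exact ⟨j, hj⟩
  obtain ⟨k, hk⟩ := D.t_two s
  have hts : ∃ k : ℕ, orderOf (⟨D.t s, D.t_mem s⟩ : ↥D.C) = 2 ^ k := ⟨k, by rw [← Subgroup.orderOf_coe]; exact hk⟩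
  have h1 : IsPPart 2 (el (rsec s) * q) (D.π z) :=
    ⟨D.π v, by rw [← map_mul, hzv, hg], hc.map D.π, htwo hz rfl, fun hd => hv (hd.trans (orderOf_map_dvd _ v))⟩
  have h2 : IsPPart 2 (el (rsec s) * q) (el (rsec s)) := ⟨q, rfl, hq.symm, htwo hts (D.pi_t s), hodd⟩
  have hπz := pPart_unique h1 h2
  obtain ⟨l, hl, e⟩ := conj_of_same_image D.π D.odd hz hts (by rw [hπz, D.pi_t])
  have hcv : ((l * v * l⁻¹ : ↥D.C) : G) ∈ D.H s := by
    refine Subgroup.mem_centralizer_singleton_iff.2 ?_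
    have h3 := congrArg (fun x : ↥D.C => (x : G)) (hc.map (MulAut.conj l).toMonoidHom).eq
    simp only [MulEquiv.coe_toMonoidHom, MulAut.conj_apply, e] at h3
    exact h3.symm
  refine ⟨l, hl, ⟨_, hcv⟩, ?_, ?_⟩
  · show D.π (l * v * l⁻¹) = q
    rw [map_mul, map_mul, map_inv, MonoidHom.mem_ker.1 hl, one_mul, inv_one, mul_one]
    have h4 := hg
    rw [← hzv, map_mul, hπz] at h4
    exact mul_left_cancel h4
  · have h5 : l * g * l⁻¹ = ⟨D.t s, D.t_mem s⟩ * (l * v * l⁻¹) := by rw [← e, ← hzv]; group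
    exact congrArg Subtype.val h5

variable [Fintype G] [Fintype ↥D.C] {M : Ideal AlgInt}

/-- Inside the principal block a section is constant over a class of the quotient. -/
theorem section_const (hM : IsPModular 2 M) (s : Fin 6) {χ : IrrCharacter G} (hχ : χ ∈ principalBlock M G)
    {q : Q} (hq : q * el (rsec s) = el (rsec s) * q) (hq15 : q ^ 15 = 1) {w : ↥(D.H s)} (hw : D.πs s w = q)
    {g : ↥D.C} (hg : D.π g = el (rsec s) * q) : (χ : G → ℂ) g = (χ : G → ℂ) (D.t s * (w : G)) := by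
  classical
  haveI : Fact (Nat.Prime 2) := ⟨Nat.prime_two⟩
  obtain ⟨l, -, v, hv, e⟩ := D.exists_split s hq hq15 hg
  cases nonempty_fintype ↥(D.H s)
  have h1 : (χ : G → ℂ) g = (χ : G → ℂ) (D.t s * (v : G)) := by
    rw [← e, show ((l * g * l⁻¹ : ↥D.C) : G) = (l : G) * g * (l : G)⁻¹ from rfl, irr_classFun χ (g : G) (l : G)]
  rw [h1]
  have h2 : w⁻¹ * v ∈ (D.πs s).ker := by rw [MonoidHom.mem_ker, map_mul, map_inv, hw, hv, inv_mul_cancel]
  have h3 := section_mul_const hM (D.t_two s) (K := (D.πs s).ker) (D.odd_ker s) hχ (v := w) (l := w⁻¹ * v)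
    ((D.reg_iff s w).2 (by rw [hw, hq15])) (by rw [mul_inv_cancel_left]; exact (D.reg_iff s v).2 (by rw [hv, hq15]))
    h2
  rw [mul_inv_cancel_left] at h3
  exact h3

theorem avg_section (hM : IsPModular 2 M) (s : Fin 6) {χ : IrrCharacter G} (hχ : χ ∈ principalBlock M G)
    {q : Q} (hq : q * el (rsec s) = el (rsec s) * q) (hq15 : q ^ 15 = 1) {w : ↥(D.H s)} (hw : D.πs s w = q) :
    D.avg χ (el (rsec s) * q) = (χ : G → ℂ) (D.t s * (w : G)) := by
  classical
  have h1 : ∀ g : ↥D.C, (if D.π g = el (rsec s) * q then (χ : G → ℂ) g else 0) =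
      (χ : G → ℂ) (D.t s * (w : G)) * (if D.π g = el (rsec s) * q then (fun _ : G => (1 : ℂ)) g else 0) := by
    intro g
    split_ifs with hg
    · rw [D.section_const hM s hχ hq hq15 hw hg, mul_one]
    · rw [mul_zero]
  rw [avg, Finset.sum_congr rfl fun g _ => h1 g, ← Finset.mul_sum, ← mul_assoc,
    mul_comm (Nat.card D.π.ker : ℂ)⁻¹, mul_assoc]
  have h2 := D.avg_one (el (rsec s) * q)
  rw [avg] at h2
  rw [h2, mul_one]

theorem avg_root (hM : IsPModular 2 M) (s : Fin 6) {χ : IrrCharacter G} (hχ : χ ∈ principalBlock M G) :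
    D.avg χ (el (rsec s)) = (χ : G → ℂ) (D.t s) := by
  have h := D.avg_section hM s hχ (q := 1) (by rw [one_mul, mul_one]) (one_pow _) (w := 1) (map_one _)
  rw [mul_one, OneMemClass.coe_one, mul_one] at h
  exact h

/-- Sums over a section as sums over the classes. -/
theorem sum_regSet (s : Fin 6) {A : Type*} [CommRing A] (w : Q → A) (F : Fin 24 → A) :
    ∑ q : Q, (if q * el (rsec s) = el (rsec s) * q ∧ q ^ 15 = 1 then w q * F (ty (el (rsec s) * q)) else 0) =
      ∑ j, (∑ q : Q, if (q * el (rsec s) = el (rsec s) * q ∧ q ^ 15 = 1) ∧ ty (el (rsec s) * q) = j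
        then w q else 0) * F j := by
  classical
  simp only [Finset.sum_mul]
  rw [Finset.sum_comm (s := (Finset.univ : Finset (Fin 24)))]
  refine Finset.sum_congr rfl fun q _ => ?_
  by_cases h : q * el (rsec s) = el (rsec s) * q ∧ q ^ 15 = 1
  · simp [h]
  · simp [h]

theorem sum_cond (s : Fin 6) {A : Type*} [CommRing A] (f : V → A) (j : Fin 24) :
    (∑ q : Q, if (q * el (rsec s) = el (rsec s) * q ∧ q ^ 15 = 1) ∧ ty (el (rsec s) * q) = j
        then f (toV q) else 0) =
      ∑ v ∈ (regSet s).filter (fun v => tyv (mv (rep (rsec s)) v) = j), f v := by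
  classical
  have e : ∀ q : Q, ((q * el (rsec s) = el (rsec s) * q ∧ q ^ 15 = 1) ∧ ty (el (rsec s) * q) = j) ↔
      ((mv (toV q) (rep (rsec s)) = mv (rep (rsec s)) (toV q) ∧ p15 (toV q) = ov) ∧
        tyv (mv (rep (rsec s)) (toV q)) = j) := fun q => by
    rw [ty, toV_mul, toV_el, ← toV_pow_fifteen, ← toV_one, toV_injective.eq_iff, ← toV_el (rsec s), ← toV_mul,
      ← toV_mul, toV_injective.eq_iff]
  simp only [e]
  rw [sum_toV (fun v => if (mv v (rep (rsec s)) = mv (rep (rsec s)) v ∧ p15 v = ov) ∧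
    tyv (mv (rep (rsec s)) v) = j then f v else 0), ← Finset.sum_filter]
  refine Finset.sum_congr ?_ fun _ _ => rfl
  rw [regSet, Finset.filter_filter]

theorem sum_section (s : Fin 6) (f : G → ℂ) (hf : IsClassFunction G f) :
    ∑ q : Q, (if q * el (rsec s) = el (rsec s) * q ∧ q ^ 15 = 1 then D.avg f (el (rsec s) * q) else 0) =
      ∑ j, (secMult s j : ℂ) * D.avg f (el j) := by
  classical
  have h1 := sum_regSet s (fun _ => (1 : ℂ)) (fun j => D.avg f (el j))
  simp only [one_mul] at h1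
  rw [Finset.sum_congr rfl fun q _ => by rw [D.avg_el hf (el (rsec s) * q)], h1]
  refine Finset.sum_congr rfl fun j _ => ?_
  rw [sum_cond s (fun _ => (1 : ℂ)) j, Finset.sum_const, nsmul_eq_mul, mul_one, secMult_spec]

/-- Outside the principal block the sums over the sections vanish. -/
theorem section_zero (hM : IsPModular 2 M) (s : Fin 6) {χ : IrrCharacter G} (hχ : χ ∉ principalBlock M G) :
    ∑ q : Q, (if q * el (rsec s) = el (rsec s) * q ∧ q ^ 15 = 1 then D.avg χ (el (rsec s) * q) else 0) = 0 := by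
  classical
  haveI : Fact (Nat.Prime 2) := ⟨Nat.prime_two⟩
  cases nonempty_fintype ↥(D.H s)
  have hR : ∑ v ∈ Finset.univ.filter (fun v : ↥(D.H s) => ¬ 2 ∣ orderOf v), (χ : G → ℂ) (D.t s * (v : G)) = 0 := by
    have h := section_reg_orth hM (D.t_two s) χ (trivialIrr _)
      (iff_of_false hχ (not_not.2 (trivial_mem_principalBlock hM)))
    simpa [trivialIrr] using h
  let A : Finset ↥D.C := Finset.univ.filter fun g =>
    ((el (rsec s))⁻¹ * D.π g) * el (rsec s) = el (rsec s) * ((el (rsec s))⁻¹ * D.π g) ∧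
      ((el (rsec s))⁻¹ * D.π g) ^ 15 = 1
  have hA : ∑ q : Q, (if q * el (rsec s) = el (rsec s) * q ∧ q ^ 15 = 1 then D.avg χ (el (rsec s) * q) else 0) =
      (Nat.card D.π.ker : ℂ)⁻¹ * ∑ g ∈ A, (χ : G → ℂ) g := by
    simp only [avg, Finset.mul_sum]
    rw [show (∑ q : Q, if q * el (rsec s) = el (rsec s) * q ∧ q ^ 15 = 1 then ∑ g : ↥D.C, (Nat.card D.π.ker : ℂ)⁻¹ *
        (if D.π g = el (rsec s) * q then (χ : G → ℂ) g else 0) else 0) =
      ∑ q : Q, ∑ g : ↥D.C, if (q * el (rsec s) = el (rsec s) * q ∧ q ^ 15 = 1) ∧ D.π g = el (rsec s) * q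
        then (Nat.card D.π.ker : ℂ)⁻¹ * (χ : G → ℂ) g else 0 from Finset.sum_congr rfl fun q _ => by
      by_cases h : q * el (rsec s) = el (rsec s) * q ∧ q ^ 15 = 1 <;> simp [h], Finset.sum_comm, Finset.sum_filter]
    refine Finset.sum_congr rfl fun g _ => ?_
    rw [Finset.sum_eq_single ((el (rsec s))⁻¹ * D.π g)
      (fun q _ hq => if_neg fun h => hq (by rw [h.2, inv_mul_cancel_left]))
      (fun h => absurd (Finset.mem_univ _) h)]
    simp [A]
  let P : Finset (↥D.π.ker × ↥(D.H s)) := Finset.univ.filter fun x => ¬ 2 ∣ orderOf x.2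
  let φ : ↥D.π.ker × ↥(D.H s) → ↥D.C := fun x =>
    (x.1 : ↥D.C) * (⟨D.t s, D.t_mem s⟩ * Subgroup.inclusion (D.H_le s) x.2) * (x.1 : ↥D.C)⁻¹
  have hmap : ∀ x ∈ P, φ x ∈ A := by
    intro x hx
    have hq : (el (rsec s))⁻¹ * D.π (φ x) = D.πs s x.2 := by
      simp only [φ, map_mul, map_inv, MonoidHom.mem_ker.1 x.1.2, one_mul, inv_one, mul_one, D.pi_t]
      rw [inv_mul_cancel_left]; rfl
    refine Finset.mem_filter.2 ⟨Finset.mem_univ _, ?_⟩
    rw [hq]
    exact ⟨D.πs_comm s x.2, (D.reg_iff s x.2).1 (Finset.mem_filter.1 hx).2⟩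
  have hfib : ∀ g ∈ A, (P.filter fun x => φ x = g).card = Nat.card (D.πs s).ker := by
    intro g hg
    obtain ⟨hgc, hg15⟩ := (Finset.mem_filter.1 hg).2
    obtain ⟨l, hl, v, hv, e⟩ := D.exists_split s hgc hg15 (g := g) (by rw [mul_inv_cancel_left])
    have hgl : φ (⟨l⁻¹, inv_mem hl⟩, v) = g := by
      refine Subtype.ext ?_
      show (l : G)⁻¹ * (D.t s * (v : G)) * ((l : G)⁻¹)⁻¹ = g
      rw [← e]
      show (l : G)⁻¹ * ((l : G) * g * (l : G)⁻¹) * ((l : G)⁻¹)⁻¹ = g
      group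
    rw [← Nat.card_eq_finsetCard]
    let kin : ↥(D.πs s).ker → ↥D.π.ker := fun c => ⟨Subgroup.inclusion (D.H_le s) c.1, c.2⟩
    refine (Nat.card_congr (Equiv.ofBijective
      (fun c : ↥(D.πs s).ker => (⟨(⟨l⁻¹, inv_mem hl⟩ * kin c, c.1⁻¹ * v * c.1), Finset.mem_filter.2
        ⟨Finset.mem_filter.2 ⟨Finset.mem_univ _, ?_⟩, ?_⟩⟩ : ↥(P.filter fun x => φ x = g)))
      ⟨fun a b h => ?_, fun x => ?_⟩)).symm
    · rw [D.reg_iff, map_mul, map_mul, map_inv, MonoidHom.mem_ker.1 c.2, inv_one, one_mul, mul_one, hv]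
      exact hg15
    · refine Eq.trans (Subtype.ext ?_) hgl
      show (l : G)⁻¹ * ((c : ↥(D.H s)) : G) * (D.t s * (((c : ↥(D.H s)) : G)⁻¹ * (v : G) * ((c : ↥(D.H s)) : G))) *
        ((l : G)⁻¹ * ((c : ↥(D.H s)) : G))⁻¹ = (l : G)⁻¹ * (D.t s * (v : G)) * ((l : G)⁻¹)⁻¹
      have hc : ((c : ↥(D.H s)) : G) * D.t s = D.t s * ((c : ↥(D.H s)) : G) :=
        Subgroup.mem_centralizer_singleton_iff.1 (c : ↥(D.H s)).2
      calc _ = (l : G)⁻¹ * (((c : ↥(D.H s)) : G) * D.t s) * ((c : ↥(D.H s)) : G)⁻¹ * (v : G) * (l : G) := by group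
        _ = _ := by rw [hc]; group
    · have h1 := congrArg (fun x : ↥(P.filter fun x => φ x = g) => (x : ↥D.π.ker × ↥(D.H s)).1) h
      have h2 := congrArg Subtype.val (mul_left_cancel h1)
      exact Subtype.ext (Subgroup.inclusion_injective (D.H_le s) h2)
    · obtain ⟨⟨l', v'⟩, hx⟩ := x
      obtain ⟨hxP, hxg⟩ := Finset.mem_filter.1 hx
      have e1 : (l' : G) * (D.t s * (v' : G)) * (l' : G)⁻¹ = (l : G)⁻¹ * (D.t s * (v : G)) * ((l : G)⁻¹)⁻¹ :=
        congrArg Subtype.val (hxg.trans hgl.symm)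
      set d : ↥D.C := l * (l' : ↥D.C) with hd
      have e2 : (d : G) * (D.t s * (v' : G)) * (d : G)⁻¹ = D.t s * (v : G) := by
        calc _ = (l : G) * ((l' : G) * (D.t s * (v' : G)) * (l' : G)⁻¹) * (l : G)⁻¹ := by
              rw [hd]; simp only [Subgroup.coe_mul]; group
          _ = _ := by rw [e1]; group
      obtain ⟨k, hk⟩ := D.t_two s
      have hodd : ∀ w : ↥(D.H s), D.πs s w ^ 15 = 1 → ¬ 2 ∣ orderOf (w : G) := fun w hw hd' => by
        rw [Subgroup.orderOf_coe] at hd'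
        exact (D.reg_iff s w).2 hw hd'
      have hp1 : IsPPart 2 (D.t s * (v : G)) ((d : G) * D.t s * (d : G)⁻¹) :=
        ⟨(d : G) * (v' : G) * (d : G)⁻¹, by rw [← e2]; group,
          (show Commute (D.t s) (v' : G) from (Subgroup.mem_centralizer_singleton_iff.1 v'.2).symm).map
            (MulAut.conj (d : G)).toMonoidHom,
          ⟨k, by rw [← MulAut.conj_apply, MulEquiv.orderOf_eq, hk]⟩, by
            rw [← MulAut.conj_apply, MulEquiv.orderOf_eq]
            exact hodd v' ((D.reg_iff s v').1 (Finset.mem_filter.1 hxP).2)⟩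
      have hp2 : IsPPart 2 (D.t s * (v : G)) (D.t s) :=
        ⟨v, rfl, (Subgroup.mem_centralizer_singleton_iff.1 v.2).symm, ⟨k, hk⟩, hodd v (by rw [hv]; exact hg15)⟩
      have hdt := pPart_unique hp1 hp2
      have hdH : (d : G) ∈ D.H s := Subgroup.mem_centralizer_singleton_iff.2 (mul_inv_eq_iff_eq_mul.1 hdt)
      have hdk : (⟨(d : G), hdH⟩ : ↥(D.H s)) ∈ (D.πs s).ker :=
        (MonoidHom.mem_ker.2 (show D.π d = 1 by
          rw [hd, map_mul, MonoidHom.mem_ker.1 hl, MonoidHom.mem_ker.1 l'.2, one_mul]))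
      refine ⟨⟨⟨(d : G), hdH⟩, hdk⟩, Subtype.ext (Prod.ext ?_ ?_)⟩
      · refine Subtype.ext (Subtype.ext ?_)
        show (l : G)⁻¹ * (d : G) = (l' : G)
        rw [hd]; simp
      · refine Subtype.ext ?_
        show (d : G)⁻¹ * (v : G) * (d : G) = (v' : G)
        have h3 : D.t s * (v : G) = D.t s * ((d : G) * (v' : G) * (d : G)⁻¹) := by
          calc D.t s * (v : G) = (d : G) * D.t s * (d : G)⁻¹ * ((d : G) * (v' : G) * (d : G)⁻¹) := by
                rw [← e2]; group
            _ = _ := by rw [hdt]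
        rw [mul_left_cancel h3]; group
  have hsum : (Nat.card (D.πs s).ker : ℂ) * ∑ g ∈ A, (χ : G → ℂ) g = 0 := by
    have h1 : ∑ x ∈ P, (χ : G → ℂ) (φ x) = (Nat.card (D.πs s).ker : ℂ) * ∑ g ∈ A, (χ : G → ℂ) g := by
      rw [← Finset.sum_fiberwise_of_maps_to hmap, Finset.mul_sum]
      refine Finset.sum_congr rfl fun g hg => ?_
      rw [Finset.sum_congr rfl fun x hx => by rw [(Finset.mem_filter.1 hx).2], Finset.sum_const, nsmul_eq_mul,
        hfib g hg]
    rw [← h1, Finset.sum_filter, Fintype.sum_prod_type]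
    refine Finset.sum_eq_zero fun l _ => ?_
    refine Eq.trans ?_ hR
    rw [Finset.sum_filter]
    refine Finset.sum_congr rfl fun v _ => ?_
    split_ifs
    · rfl
    · exact irr_classFun χ (D.t s * (v : G)) ((l : ↥D.C) : G)
  rw [hA, (mul_eq_zero.1 hsum).resolve_left (Nat.cast_ne_zero.2 Nat.card_pos.ne'), mul_zero]

/-- Outside the principal block six linear forms in the coefficients vanish. -/
theorem co_zero_forms (hM : IsPModular 2 M) (s : Fin 6) {χ : IrrCharacter G} (hχ : χ ∉ principalBlock M G) :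
    ∑ i, toC (tv s i) * (D.co i χ : ℂ) = 0 := by
  rw [D.weights χ (tv s)]
  have h := D.section_zero hM s hχ
  rw [D.sum_section s _ (IsIrr.classFun χ.2)] at h
  simp only [tv_spec, show ∀ n : ℕ, toC (480 * (n : ℤ), 0) = 480 * (n : ℂ) from fun n => by simp [toC],
    mul_assoc, ← Finset.mul_sum]
  rw [h, mul_zero, mul_zero]

/-- The character of degree four on the centralizer of a central root. -/
noncomputable def etaH (s : Fin 6) (hs : (s : ℕ) < 3) : IrrCharacter ↥(D.H s) :=
  ⟨fun v => Eta (D.πs s v), IsIrr.comp_surjective (D.πs s) (fun q => D.exists_over s (toV_injective (by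
    rw [toV_mul, toV_mul, toV_el]; exact central s hs _ (mem_units q)))) eta_irr⟩

/-- It is not in the principal block. -/
theorem etaH_notMem (hM : IsPModular 2 M) (s : Fin 6) (hs : (s : ℕ) < 3) :
    D.etaH s hs ∉ principalBlock M ↥(D.H s) := by
  classical
  haveI : Fact (Nat.Prime 2) := ⟨Nat.prime_two⟩
  have surj : Function.Surjective (D.πs s) := fun q => D.exists_over s (toV_injective (by
    rw [toV_mul, toV_mul, toV_el]; exact central s hs _ (mem_units q)))
  have hE0 : D.t 4 ∈ D.H s := by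
    refine Subgroup.mem_centralizer_singleton_iff.2 ?_
    rw [t, t, ← map_mul, ← map_mul]
    refine congrArg D.p (Subtype.ext (toV_injective ?_))
    show toV ((secQ 4 : Q) * (secQ s : Q)) = toV ((secQ s : Q) * (secQ 4 : Q))
    rw [toV_mul, toV_mul, show toV ((secQ s : ↥Semi) : Q) = rep (rsec s) from toV_el _]
    exact central s hs _ (mem_units _)
  obtain ⟨E, hE⟩ : ∃ E : ↥(D.H s), E = ⟨D.t 4, hE0⟩ := ⟨_, rfl⟩
  have hEπ : D.πs s E = el (rsec 4) := by rw [hE]; exact D.pi_t 4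
  obtain ⟨W, hW⟩ := toV_surj (v := ((2, 1, 3, 2) : V)) (by decide)
  have hWc : W * D.πs s E = D.πs s E * W := by
    rw [hEπ]
    refine toV_injective ?_
    rw [toV_mul, toV_mul, toV_el, hW]; decide
  have hE2 : ∃ k : ℕ, orderOf E = 2 ^ k := by
    obtain ⟨k, hk⟩ := D.t_two 4
    exact ⟨k, by rw [← Subgroup.orderOf_coe, hE]; exact hk⟩
  obtain ⟨g, hgE, hgW⟩ := exists_lift (D.πs s) surj (D.odd_ker s) hE2 hWc
  let f : ↥(Subgroup.centralizer ({g} : Set ↥(D.H s))) →* Q := (D.πs s).comp (Subgroup.subtype _)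
  have hrange : Nat.card f.range ∣ 24 := by
    have hWmem : ∀ x ∈ f.range, x * W = W * x := by
      rintro _ ⟨c, rfl⟩
      rw [← hgW]
      show D.πs s c.1 * D.πs s g = D.πs s g * D.πs s c.1
      rw [← map_mul, ← map_mul]
      exact congrArg _ (Subgroup.mem_centralizer_singleton_iff.1 c.2)
    have hcard : Nat.card (Subgroup.centralizer ({W} : Set Q)) = 24 := by
      have htab : (units.filter fun v => mv v (2, 1, 3, 2) = mv (2, 1, 3, 2) v).card = 24 := by decide +kernel
      rw [← htab, ← Nat.card_eq_finsetCard]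
      refine Nat.card_congr (Equiv.ofBijective (fun q => ⟨toV (q : Q), Finset.mem_filter.2 ⟨mem_units _, ?_⟩⟩)
        ⟨fun a b h => Subtype.ext (toV_injective (congrArg Subtype.val h)), fun v => ?_⟩)
      · rw [← hW, ← toV_mul, ← toV_mul, Subgroup.mem_centralizer_singleton_iff.1 q.2]
      · obtain ⟨hv1, hv2⟩ := Finset.mem_filter.1 v.2
        obtain ⟨q, hq⟩ := toV_surj (Finset.mem_filter.1 hv1).2
        exact ⟨⟨q, Subgroup.mem_centralizer_singleton_iff.2 (toV_injective (by
          rw [toV_mul, toV_mul, hq, hW]; exact hv2))⟩, Subtype.ext hq⟩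
    rw [← hcard]
    exact Subgroup.card_dvd_of_le fun x hx => Subgroup.mem_centralizer_singleton_iff.2 (hWmem x hx)
  have h8 : 8 ∣ Nat.card f.range := by
    have h1 : orderOf (el (rsec 4)) = 8 := by
      refine orderOf_eq_prime_pow (p := 2) (n := 2) (fun h => ?_) ?_
      · have h' := congrArg toV h
        simp only [show (2 : ℕ) ^ 2 = 4 by norm_num, pow_succ, pow_zero, one_mul, toV_mul, toV_el, toV_one] at h'
        revert h'; decide
      · refine toV_injective ?_
        simp only [show (2 : ℕ) ^ (2 + 1) = 8 by norm_num, pow_succ, pow_zero, one_mul, toV_mul, toV_el, toV_one]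
        decide
    rw [← h1]
    exact f.range.orderOf_dvd_natCard ⟨⟨E, Subgroup.mem_centralizer_singleton_iff.2 hgE.symm⟩, hEπ⟩
  obtain ⟨k', hk'⟩ : ∃ k', k' = Nat.card f.ker := ⟨_, rfl⟩
  have hk'odd : ¬ 2 ∣ k' := by
    rw [hk']
    refine fun hd => D.odd_ker s (hd.trans ?_)
    rw [← Nat.card_congr (Subgroup.equivMapOfInjective f.ker _ (Subgroup.subtype_injective _)).symm.toEquiv]
    refine Subgroup.card_dvd_of_le ?_
    rintro _ ⟨c, hc, rfl⟩
    exact hc
  have hH : Nat.card ↥(D.H s) = 480 * Nat.card (D.πs s).ker := by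
    rw [← (D.πs s).ker.card_mul_index, Subgroup.index_ker, MonoidHom.range_eq_top.2 surj, Subgroup.card_top,
      card_Q, mul_comm]
  have hCg : Nat.card (Subgroup.centralizer ({g} : Set ↥(D.H s))) = k' * Nat.card f.range := by
    rw [hk', ← f.ker.card_mul_index, Subgroup.index_ker]
  have hidx := (Subgroup.centralizer ({g} : Set ↥(D.H s))).card_mul_index
  rw [hH, hCg] at hidx
  obtain ⟨i, hi, hiodd⟩ : ∃ i, (Subgroup.centralizer ({g} : Set ↥(D.H s))).index = 4 * i ∧ ¬ 2 ∣ i := by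
    set n := (Subgroup.centralizer ({g} : Set ↥(D.H s))).index
    set K := Nat.card (D.πs s).ker
    have hK : ¬ 2 ∣ K := D.odd_ker s
    obtain ⟨r, hr⟩ := h8
    rw [hr] at hidx hrange
    have h1 : k' * r * n = 60 * K := by linarith
    have hr3 : r ∣ 3 := Nat.dvd_of_mul_dvd_mul_left (by norm_num : 0 < 8) (hrange.trans (dvd_of_eq (by norm_num)))
    have hrodd : ¬ 2 ∣ r := fun h => absurd (h.trans hr3) (by norm_num)
    have hc : Nat.Coprime 4 (k' * r) := by
      rw [show (4 : ℕ) = 2 ^ 2 by norm_num]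
      exact Nat.Coprime.pow_left 2 (Nat.prime_two.coprime_iff_not_dvd.2 fun h =>
        ((Nat.Prime.dvd_mul Nat.prime_two).1 h).elim hk'odd hrodd)
    obtain ⟨i, hi⟩ : 4 ∣ n := hc.dvd_of_dvd_mul_left ⟨15 * K, by linarith⟩
    refine ⟨i, hi, fun h2 => ?_⟩
    obtain ⟨j, rfl⟩ := h2
    rw [hi] at h1
    have h15 : ¬ 2 ∣ 15 * K := fun h => ((Nat.Prime.dvd_mul Nat.prime_two).1 h).elim (by norm_num) hK
    exact h15 ⟨k' * r * j, by linarith⟩
  intro hmem
  have hs' : MemLocalIdeal M (centralChar (fun _ : ↥(D.H s) => (1 : ℂ)) g -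
      centralChar (D.etaH s hs : ↥(D.H s) → ℂ) g) := hmem g
  have hη : (D.etaH s hs : ↥(D.H s) → ℂ) g = 1 := by
    show Eta (D.πs s g) = 1
    rw [hgW, Eta, ty, hW]
    have : etaTab (tyv ((2, 1, 3, 2) : V)) = 1 := by decide +kernel
    rw [this]; norm_num
  have hη1 : (D.etaH s hs : ↥(D.H s) → ℂ) 1 = 4 := by
    show Eta (D.πs s 1) = 4
    rw [map_one, eta_one]
  have hval : centralChar (fun _ : ↥(D.H s) => (1 : ℂ)) g - centralChar (D.etaH s hs : ↥(D.H s) → ℂ) g =
      ((3 * i : ℕ) : ℂ) := by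
    simp only [centralChar, hη, hη1, hi]
    push_cast; ring
  rw [hval, ideal_natCast_iff hM] at hs'
  exact ((Nat.Prime.dvd_mul Nat.prime_two).1 hs').elim (by norm_num) hiodd

/-- At a root with commutative centralizer the averages over the whole section are the value at the root. -/
theorem avg_abelian (hM : IsPModular 2 M) (s : Fin 6) (hs : ¬ (s : ℕ) < 3) {χ : IrrCharacter G}
    (hχ : χ ∈ principalBlock M G) {q : Q} (hq : q * el (rsec s) = el (rsec s) * q) (hq15 : q ^ 15 = 1) :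
    D.avg χ (el (ty (el (rsec s) * q))) = (χ : G → ℂ) (D.t s) := by
  haveI : Fact (Nat.Prime 2) := ⟨Nat.prime_two⟩
  obtain ⟨w, hw⟩ := D.exists_over s hq
  rw [← D.avg_el (IsIrr.classFun χ.2), D.avg_section hM s hχ hq hq15 hw]
  -- the complement of the centralizer is in the kernel
  let f : ↥(D.H s) →* Q := D.πs s
  have hcomm : ∀ a b : ↥(D.H s), f a * f b = f b * f a := fun a b => toV_injective (by
    rw [toV_mul, toV_mul]
    refine cent_comm s hs _ (Finset.mem_filter.2 ⟨mem_units _, ?_⟩) _ (Finset.mem_filter.2 ⟨mem_units _, ?_⟩) <;>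
      (rw [← toV_el (rsec s), ← toV_mul, ← toV_mul]; exact congrArg toV (D.πs_comm s _)))
  let K : Subgroup ↥(D.H s) :=
    { carrier := {a | f a ^ 15 = 1}
      one_mem' := by show f 1 ^ 15 = 1; rw [map_one, one_pow]
      mul_mem' := fun {a b} ha hb => by
        show f (a * b) ^ 15 = 1
        rw [map_mul, (show Commute (f a) (f b) from hcomm a b).mul_pow, ha, hb, one_mul]
      inv_mem' := fun {a} ha => by show f a⁻¹ ^ 15 = 1; rw [map_inv, inv_pow, ha, inv_one] }
  haveI : K.Normal := ⟨fun a ha b => by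
    show f (b * a * b⁻¹) ^ 15 = 1
    rw [map_mul, map_mul, map_inv, hcomm b a, mul_inv_cancel_right]
    exact ha⟩
  have hK : ¬ 2 ∣ Nat.card K := fun hd => by
    obtain ⟨a, ha⟩ := exists_prime_orderOf_dvd_card' (G := K) 2 hd
    rw [← Subgroup.orderOf_coe] at ha
    exact (D.reg_iff s a.1).2 a.2 (dvd_of_eq ha.symm)
  exact principal_section_const hM (D.t_two s) hK ((D.reg_iff s w).2 (by rw [hw, hq15]))
    (show f w ^ 15 = 1 by rw [show f w = D.πs s w from rfl, hw, hq15]) hχ

/-- Inside the principal block the values at the roots are linear forms in the coefficients. -/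
theorem value_forms (hM : IsPModular 2 M) (s : Fin 6) {χ : IrrCharacter G} (hχ : χ ∈ principalBlock M G) :
    ∑ i, toC (wv s i) * (D.co i χ : ℂ) = (χ : G → ℂ) (D.t s) := by
  classical
  haveI : Fact (Nat.Prime 2) := ⟨Nat.prime_two⟩
  rw [D.weights χ (wv s)]
  by_cases hs : (s : ℕ) < 3
  · cases nonempty_fintype ↥(D.H s)
    have hrel : ∑ q : Q, (if q * el (rsec s) = el (rsec s) * q ∧ q ^ 15 = 1
        then (etaTab (tyv (toV q)) : ℂ) * D.avg χ (el (rsec s) * q) else 0) = 0 := by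
      have h := section_reg_orth hM (D.t_two s) χ (D.etaH s hs) (iff_of_true hχ (D.etaH_notMem hM s hs))
      have surj : Function.Surjective (D.πs s) := fun q => D.exists_over s (toV_injective (by
        rw [toV_mul, toV_mul, toV_el]; exact central s hs _ (mem_units q)))
      rw [Finset.sum_filter] at h
      have h2 : ∀ v : ↥(D.H s), (if ¬ 2 ∣ orderOf v then (χ : G → ℂ) (D.t s * (v : G)) *
          conj ((D.etaH s hs : ↥(D.H s) → ℂ) v) else 0) =
          (fun q : Q => if q * el (rsec s) = el (rsec s) * q ∧ q ^ 15 = 1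
            then (etaTab (tyv (toV q)) : ℂ) * D.avg χ (el (rsec s) * q) else 0) (D.πs s v) := by
        intro v
        by_cases hv : D.πs s v ^ 15 = 1
        · rw [if_pos ((D.reg_iff s v).2 hv)]
          simp only [D.πs_comm s v, hv, and_self, if_true]
          rw [D.avg_section hM s hχ (D.πs_comm s v) hv rfl, show (D.etaH s hs : ↥(D.H s) → ℂ) v =
            ((etaTab (ty (D.πs s v)) : ℤ) : ℂ) from rfl, map_intCast, mul_comm]
          rfl
        · rw [if_neg fun h' => hv ((D.reg_iff s v).1 h')]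
          simp only [hv, and_false, if_false]
      rw [Finset.sum_congr rfl fun v _ => h2 v, sum_comp_surjective (D.πs s) surj
        (fun q : Q => if q * el (rsec s) = el (rsec s) * q ∧ q ^ 15 = 1
          then (etaTab (tyv (toV q)) : ℂ) * D.avg χ (el (rsec s) * q) else 0)] at h
      exact (mul_eq_zero.1 h).resolve_left (Nat.cast_ne_zero.2 Nat.card_pos.ne')
    have h1 := sum_regSet s (fun q => (etaTab (tyv (toV q)) : ℂ)) (fun j => D.avg χ (el j))
    rw [Finset.sum_congr rfl fun q _ => by rw [D.avg_el (IsIrr.classFun χ.2) (el (rsec s) * q)], h1] at hrel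
    have h3 : ∀ j, (∑ q : Q, if (q * el (rsec s) = el (rsec s) * q ∧ q ^ 15 = 1) ∧ ty (el (rsec s) * q) = j
        then (etaTab (tyv (toV q)) : ℂ) else 0) = (etaW s j : ℂ) := fun j => by
      rw [sum_cond s (fun v => (etaTab (tyv v) : ℂ)) j, ← etaW_spec s hs j, Int.cast_sum]
    simp only [h3] at hrel
    rw [← D.avg_root hM s hχ]
    simp only [wv_spec, if_pos hs]
    have h4 : ∀ j, toC ((480 * (if j = rsec s then (1 : ℤ) else 0) - 32 * etaW s j, 0) : ℤ × ℤ) * D.avg χ (el j) =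
        (if j = rsec s then 480 * D.avg χ (el j) else 0) - 32 * ((etaW s j : ℂ) * D.avg χ (el j)) := fun j => by
      split_ifs <;> simp [toC] <;> ring
    rw [Finset.sum_congr rfl fun j _ => h4 j, Finset.sum_sub_distrib, Finset.sum_ite_eq', if_pos (Finset.mem_univ _),
      ← Finset.mul_sum, hrel]
    ring
  · have hv : ∀ j, (secMult s j : ℂ) * D.avg χ (el j) = (secMult s j : ℂ) * (χ : G → ℂ) (D.t s) := by
      intro j
      by_cases h0 : secMult s j = 0
      · simp [h0]
      rw [← secMult_spec] at h0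
      obtain ⟨v, hv⟩ := Finset.card_ne_zero.1 h0
      obtain ⟨hvr, hvj⟩ := Finset.mem_filter.1 hv
      obtain ⟨hvu, hvc, hv15⟩ := Finset.mem_filter.1 hvr
      obtain ⟨q, rfl⟩ := toV_surj (Finset.mem_filter.1 hvu).2
      have hq : q * el (rsec s) = el (rsec s) * q := toV_injective (by rw [toV_mul, toV_mul, toV_el]; exact hvc)
      have hq15 : q ^ 15 = 1 := toV_injective (by rw [toV_pow_fifteen, toV_one]; exact hv15)
      obtain ⟨w, hw⟩ := D.exists_over s hq
      have hj : ty (el (rsec s) * q) = j := by rw [ty, toV_mul, toV_el]; exact hvj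
      congr 1
      rw [← hj]
      exact D.avg_abelian hM s hs hχ hq hq15
    have hm : ((∑ j, secMult s j : ℕ) : ℂ) = if (s : ℕ) = 3 then 1 else 3 := by
      rw [mult_total s hs]; split_ifs <;> norm_num
    push_cast at hm
    simp only [wv_spec, if_neg hs]
    split_ifs with h3
    · simp only [show ∀ n : ℕ, toC (480 * (n : ℤ), 0) = 480 * (n : ℂ) from fun n => by simp [toC],
        mul_assoc, hv, ← Finset.mul_sum, ← Finset.sum_mul]
      rw [hm, if_pos h3]; ring
    · simp only [show ∀ n : ℕ, toC (160 * (n : ℤ), 0) = 160 * (n : ℂ) from fun n => by simp [toC],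
        mul_assoc, hv, ← Finset.mul_sum, ← Finset.sum_mul]
      rw [hm, if_neg h3]; ring

end Data

end Cfsg.Agent.Invol.Wreath5Core
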